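import Cfsg.Agent.Lib.Fusion.Alperin
import Cfsg.Agent.Lib.Fusion.Nilpotent
import Cfsg.Agent.Lib.Fusion.Realized
import Cfsg.Agent.Lib.PCore.Basic

/-!
2-fusion systems controlled by automorphisms of odd order: two saturated systems agree if they have
the same odd-order automorphisms of centric subgroups; fusion-stable homomorphisms; realizability
along an injective homomorphism.
-/

set_option autoImplicit false

namespace Cfsg.Agent.Fusion.RankTwoRealize

open Cfsg Cfsg.FusionSystem Cfsg.Agent.Fusion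

variable {Ω : Type*} [Group Ω] {S : Subgroup Ω} [Finite S]
variable {F F' : FusionSystem S}

/-- `R` has a nontrivial automorphism of odd order in the system. -/
def Active (F : FusionSystem S) (R : Subgroup Ω) : Prop :=
  ∃ α ∈ F.autGroup R, Odd (orderOf α) ∧ α ≠ 1

/-- A finite group is generated by a Sylow 2-subgroup together with its elements of odd order. -/
theorem le_of_sylow_and_odd {M : Type*} [Group M] {H K : Subgroup M} [Finite H] {A : Subgroup M}
    (hA : ∃ P : Sylow 2 H, (P : Subgroup H) = A.subgroupOf H) (hAK : A ≤ K)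
    (hodd : ∀ a ∈ H, Odd (orderOf a) → a ∈ K) : H ≤ K := by
  have : Fact (Nat.Prime 2) := ⟨Nat.prime_two⟩
  obtain ⟨P, hP⟩ := hA
  let N : Subgroup H := Subgroup.closure {a : H | Odd (orderOf a)}
  have hNle : ∀ g : H, N.map (MulAut.conj g).toMonoidHom ≤ N := fun g => by
    rw [MonoidHom.map_closure, Subgroup.closure_le]
    rintro _ ⟨a, ha, rfl⟩
    exact Subgroup.subset_closure (show Odd (orderOf (MulAut.conj g a)) from
      (MulEquiv.orderOf_eq (MulAut.conj g) a).symm ▸ ha)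
  have : N.Normal := ⟨fun n hn g => hNle g ⟨n, hn, rfl⟩⟩
  have hq : IsPGroup 2 (H ⧸ N) := fun x => by
    obtain ⟨a, rfl⟩ := QuotientGroup.mk'_surjective N x
    refine ⟨(orderOf a).factorization 2, ?_⟩
    rw [← map_pow]
    refine (QuotientGroup.eq_one_iff _).2 (Subgroup.subset_closure ?_)
    show Odd (orderOf (a ^ _))
    rw [orderOf_pow_of_dvd (by positivity) (Nat.ordProj_dvd _ _), ← Nat.not_even_iff_odd,
      even_iff_two_dvd]
    exact Nat.not_dvd_ordCompl Nat.prime_two (orderOf_pos a).ne'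
  have htop : (P : Subgroup H) ⊔ N = ⊤ := by
    rw [← Subgroup.index_eq_one]
    obtain ⟨k, hk⟩ := IsPGroup.iff_card.1 hq
    have h1 : ((P : Subgroup H) ⊔ N).index ∣ 2 ^ k := hk ▸ Subgroup.index_dvd_of_le le_sup_right
    have h2 : ((P : Subgroup H) ⊔ N).index ∣ (P : Subgroup H).index :=
      Subgroup.index_dvd_of_le le_sup_left
    exact Nat.eq_one_of_dvd_coprimes
      ((Nat.prime_two.coprime_iff_not_dvd.2 P.not_dvd_index).pow_left k) h1 h2
  intro a ha
  have hle : (P : Subgroup H) ⊔ N ≤ K.subgroupOf H := by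
    refine sup_le (hP ▸ fun b hb => hAK hb) ((Subgroup.closure_le _).2 fun b hb => ?_)
    exact hodd b b.2 (by rw [Subgroup.orderOf_coe]; exact hb)
  exact hle (htop ▸ Subgroup.mem_top (⟨a, ha⟩ : H))

/-- A system is contained in another if the second has all its odd automorphisms of centric
subgroups. -/
theorem le_of_odd (hS : IsPGroup 2 S) (hF : F.IsSaturated 2) (F' : FusionSystem S)
    (h : ∀ R, R ≤ S → F.IsCentric R → ∀ α ∈ F.autGroup R, Odd (orderOf α) → α ∈ F'.autGroup R) :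
    F ≤ F' := by
  have : Fact (Nat.Prime 2) := ⟨Nat.prime_two⟩
  refine alperin hS hF F' fun R hn hc _ => ?_
  have := finite_mulAut (Ω := Ω) hn.1
  obtain ⟨-, P, hP⟩ := isFullyAutomized_of_fullyNormalized hS hF hn
  exact le_of_sylow_and_odd ⟨P, hP⟩ (autInducedBy_le_autGroup F' hn.1) (h R hn.1 hc)

omit [Finite S] in
theorem eq_of_le_le (h : F ≤ F') (h' : F' ≤ F) : F = F' := by
  obtain ⟨H, _, _, _, _, _⟩ := F
  obtain ⟨H', _, _, _, _, _⟩ := F'
  obtain rfl : H = H' := funext fun P => Set.Subset.antisymm (h P) (h' P)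
  rfl

/-- An essential subgroup has a nontrivial automorphism of odd order. -/
theorem active_of_essential (hS : IsPGroup 2 S) (hF : F.IsSaturated 2) {R : Subgroup Ω}
    (hR : F.IsEssential 2 R) : Active F R := by
  have : Fact (Nat.Prime 2) := ⟨Nat.prime_two⟩
  have := finite_mulAut (Ω := Ω) hR.2.1.1
  have hrad := (isRadical_of_essential hS hF hR).2
  obtain ⟨-, -, _, E, hdvd, -⟩ := hR
  by_contra hA
  have hp : IsPGroup 2 (F.autGroup R) := by
    refine isPGroup_of_coprime_orderOf_eq_one fun a ha => Subtype.ext (by_contra fun hne => hA ?_)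
    exact ⟨a, a.2, by rw [Subgroup.orderOf_coe]; exact Nat.coprime_two_right.1 ha, hne⟩
  have htop : pCore 2 (F.autGroup R) = ⊤ :=
    top_le_iff.1 (PCore.le_pCore (PCore.isPGroup_top_iff.2 hp))
  rw [htop, ← MonoidHom.range_eq_map, Subgroup.range_subtype] at hrad
  rw [← Subgroup.index_eq_card, Subgroup.subgroupOf_eq_top.2 hrad.le, Subgroup.index_top] at hdvd
  exact absurd (Nat.le_of_dvd one_pos hdvd) (by norm_num)

/-- `θ` takes equal values at fused elements. -/
def Stable {B : Type*} [CommGroup B] (F : FusionSystem S) (θ : S →* B) : Prop :=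
  ∀ (P : Subgroup Ω) (φ : P →* Ω) (hφ : φ ∈ F.Hom P) (x : P),
    θ ⟨φ x, apply_mem hφ x⟩ = θ ⟨x, dom_le hφ x.2⟩

/-- The maps preserving `θ`. -/
def stableSystem {B : Type*} [CommGroup B] (F : FusionSystem S) (θ : S →* B) : FusionSystem S :=
  subsystemOf F (fun P φ => ∀ (x : P) (h₁ : φ x ∈ S) (h₂ : (x : Ω) ∈ S), θ ⟨φ x, h₁⟩ = θ ⟨x, h₂⟩)
    (fun P g hP hg x h₁ h₂ => by
      rw [show (⟨conjHom P g x, h₁⟩ : S) = ⟨g, hg⟩ * ⟨x, h₂⟩ * ⟨g, hg⟩⁻¹ from Subtype.ext rfl,
        map_mul, map_mul, map_inv, mul_comm (θ ⟨g, hg⟩), mul_inv_cancel_right])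
    (fun P Q φ ψ hφ hψ hφC hψC h x h₁ h₂ => by
      exact (hψC ⟨φ x, h x⟩ h₁ (apply_mem hφ x)).trans (hφC x (apply_mem hφ x) h₂))
    (fun P φ ψ hφ hφC hψ hψi y h₁ h₂ => by
      obtain ⟨_, x, rfl⟩ := y
      have e : (⟨ψ ⟨φ x, ⟨x, rfl⟩⟩, h₁⟩ : S) = ⟨x, dom_le hφ x.2⟩ := Subtype.ext (hψi x)
      exact (congrArg θ e).trans (hφC x h₂ _).symm)

theorem stable_of_odd {B : Type*} [CommGroup B] (hS : IsPGroup 2 S) (hF : F.IsSaturated 2)
    (θ : S →* B) (h : ∀ R (hR : R ≤ S), F.IsCentric R → ∀ α ∈ F.autGroup R, Odd (orderOf α) →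
      ∀ x : R, θ ⟨α x, hR (α x).2⟩ = θ ⟨x, hR x.2⟩) : Stable F θ := by
  have hle : F ≤ stableSystem F θ := le_of_odd hS hF _ fun R hR hc α hα hodd =>
    Subgroup.subset_closure ⟨(mem_autGroup_iff hR).1 hα, fun x _ _ => h R hR hc α hα hodd x⟩
  exact fun P φ hφ x => (hle P hφ).2 x _ _

omit [Finite S] in
theorem Stable.aut {B : Type*} [CommGroup B] {θ : S →* B} (h : Stable F θ) {R : Subgroup Ω}
    (hR : R ≤ S) {α : MulAut R} (hα : α ∈ F.autGroup R) (x : R) :
    θ ⟨α x, hR (α x).2⟩ = θ ⟨x, hR x.2⟩ :=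
  h R _ ((mem_autGroup_iff hR).1 hα) x

omit [Finite S] in
/-- Being active is invariant under the system. -/
theorem Active.of_conj {P Q : Subgroup Ω} {φ : P →* Ω} (hφ : φ ∈ F.Hom P) (hQ : φ.range = Q)
    (h : Active F P) : Active F Q := by
  obtain ⟨α, hα, hodd, hne⟩ := h
  refine ⟨_, congr_mem_autGroup hφ hQ hα, ?_, fun e => hne ?_⟩
  · rwa [MulEquiv.orderOf_eq]
  · exact (MulAut.congr (homEquiv hφ hQ)).map_eq_one_iff.1 e

omit [Finite S] in
/-- Conjugation by an element of `S`. -/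
theorem active_map_conj {P : Subgroup Ω} (hP : P ≤ S) {g : Ω} (hg : g ∈ S) (h : Active F P) :
    Active F (P.map (MulAut.conj g).toMonoidHom) := by
  refine h.of_conj (F.conj_mem hP hg) ?_
  ext a
  exact ⟨fun ⟨b, hb⟩ => ⟨b, b.2, hb⟩, fun ⟨b, hb, he⟩ => ⟨⟨b, hb⟩, he⟩⟩

/-! ### Systems induced by groups -/

variable {G : Type*} [Group G] {ι : S →* G} (hι : Function.Injective ι)

omit [Finite S] in
theorem stable_induced {B : Type*} [CommGroup B] {θ : S →* B}
    (h : ∀ (g : G) (s t : S), g * ι s * g⁻¹ = ι t → θ t = θ s) :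
    Stable (inducedSystem ι hι) θ := by
  rintro P φ ⟨hP, hφ, g, hg⟩ x
  exact h g _ _ (hg x).symm

omit [Finite S] in
/-- Conjugation in `G` is a map of the induced system. -/
theorem exists_map {P : Subgroup Ω} (hP : P ≤ S) (g : G)
    (h : ∀ x : P, g * ι ⟨x, hP x.2⟩ * g⁻¹ ∈ ι.range) :
    ∃ φ, ∃ hφ : φ ∈ (inducedSystem ι hι).Hom P,
      ∀ x : P, ι ⟨φ x, apply_mem hφ x⟩ = g * ι ⟨x, hP x.2⟩ * g⁻¹ :=
  ⟨_, pullHom_mem (inducedSystem_realized ι hι) hP g h, fun x =>
    apply_pullHom hι hP g h x _⟩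

omit [Finite S] in
theorem not_stable_induced {B : Type*} [CommGroup B] {θ : S →* B} {s t : S}
    (h : ∃ g : G, g * ι s * g⁻¹ = ι t) (hne : θ t ≠ θ s) : ¬ Stable (inducedSystem ι hι) θ := by
  obtain ⟨g, hg⟩ := h
  intro hst
  have hle : Subgroup.zpowers (s : Ω) ≤ S := Subgroup.zpowers_le.2 s.2
  obtain ⟨φ, hφ, he⟩ := exists_map hι hle g (fun x => by
    obtain ⟨i, hi⟩ := Subgroup.mem_zpowers_iff.1 x.2
    refine ⟨t ^ i, ?_⟩
    rw [map_zpow, ← hg, conj_zpow, ← map_zpow]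
    congr 3
    exact Subtype.ext (by rw [SubgroupClass.coe_zpow, hi]))
  have e := hι ((he ⟨s, Subgroup.mem_zpowers _⟩).trans hg)
  exact hne ((congrArg θ e).symm.trans (hst _ φ hφ ⟨s, Subgroup.mem_zpowers _⟩))

omit [Finite S] in
/-- An automorphism induced by an element of `G`. -/
theorem aut_mem_induced {R : Subgroup Ω} (hR : R ≤ S) (α : MulAut R) (g : G)
    (h : ∀ x : R, g * ι ⟨x, hR x.2⟩ * g⁻¹ = ι ⟨α x, hR (α x).2⟩) :
    α ∈ (inducedSystem ι hι).autGroup R :=
  (mem_autGroup_iff hR).2 ⟨hR, fun x => hR (α x).2, g, fun x => (h x).symm⟩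

omit [Finite S] in
/-- A Sylow subgroup from the order. -/
theorem exists_sylow_range [Finite G] (hS : Nat.card S = 2 ^ (Nat.card G).factorization 2)
    (hι : Function.Injective ι) : ∃ T : Sylow 2 G, (T : Subgroup G) = ι.range := by
  have : Fact (Nat.Prime 2) := ⟨Nat.prime_two⟩
  refine ⟨Sylow.ofCard ι.range ?_, rfl⟩
  rw [← hS]
  exact (Nat.card_congr (MonoidHom.ofInjective hι).toEquiv).symm

end Cfsg.Agent.Fusion.RankTwoRealize

namespace Cfsg.Agent.Fusion.RankTwoRealize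

open Cfsg Cfsg.FusionSystem Cfsg.Agent.Fusion

universe u

theorem isRealizable_of_induced {Ω : Type u} [Group Ω] {S : Subgroup Ω} [Finite S]
    {F : FusionSystem S} {G : Type} [Group G] [Finite G] (ι : S →* G) (hι : Function.Injective ι)
    (hcard : Nat.card S = 2 ^ (Nat.card G).factorization 2) (hF : F = inducedSystem ι hι) :
    F.IsRealizable 2 := by
  let e : ULift.{u} G ≃* G := MulEquiv.ulift
  let κ : S →* ULift.{u} G := e.symm.toMonoidHom.comp ι
  have hκ : Function.Injective κ := e.symm.injective.comp hι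
  refine ⟨ULift.{u} G, inferInstance, inferInstance, κ, ⟨hκ, fun P hP φ hφ => ?_⟩,
    exists_sylow_range ?_ hκ⟩
  · subst hF
    constructor
    · rintro ⟨_, _, g, hg⟩
      refine ⟨e.symm g, fun x => ?_⟩
      show e.symm (ι _) = _ * e.symm (ι _) * _
      rw [hg x, map_mul, map_mul, map_inv]
    · rintro ⟨g, hg⟩
      refine ⟨hP, hφ, e g, fun x => ?_⟩
      have := congrArg e (hg x)
      simpa [κ] using this
  · rw [hcard, Nat.card_congr e.toEquiv]

end Cfsg.Agent.Fusion.RankTwoRealize
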