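import Mathlib
import Cfsg.Prelude.Def_FusionSystem

/-!
Groups that are a central subgroup extended by a four-group: automorphisms of odd order are
determined, modulo inner automorphisms, by any one of them.
-/

set_option autoImplicit false

namespace Cfsg.Agent.Fusion.RankTwoRealize

/-- `C` is central with quotient a four-group with cosets of `u`, `w`, `u * w`; `f` is the only
possible involution of `C`, and automorphisms of odd order fix `C`. -/
structure Quartet {P : Type*} [Group P] (C : Subgroup P) (u w f : P) : Prop where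
  fix : ∀ β : MulAut P, Odd (orderOf β) → ∀ c ∈ C, β c = c
  central : ∀ c ∈ C, ∀ g : P, c * g = g * c
  cover : ∀ g : P, g ∈ C ∨ u⁻¹ * g ∈ C ∨ w⁻¹ * g ∈ C ∨ (u * w)⁻¹ * g ∈ C
  invol : ∀ c ∈ C, c * c = 1 → c = 1 ∨ c = f
  sqC : ∀ g : P, g * g ∈ C
  f_mem : f ∈ C
  hu : u ∉ C
  hw : w ∉ C
  huw : u * w ∉ C
  conj_u : w * u * w⁻¹ = u * f
  conj_w : u * w * u⁻¹ = w * f

variable {P : Type*} [Group P] {C : Subgroup P} {u w f : P}

namespace Quartet

variable (h : Quartet C u w f)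
include h

omit h in
theorem rel_symm {a b : P} (hab : a⁻¹ * b ∈ C) : b⁻¹ * a ∈ C := by
  simpa using C.inv_mem hab

omit h in
theorem rel_trans {a b c : P} (hab : a⁻¹ * b ∈ C) (hbc : b⁻¹ * c ∈ C) : a⁻¹ * c ∈ C := by
  simpa [mul_assoc] using C.mul_mem hab hbc

theorem four {g₁ g₂ g₃ g₄ : P} (h₁ : g₁ ∉ C) (h₂ : g₂ ∉ C) (h₃ : g₃ ∉ C) (h₄ : g₄ ∉ C) :
    g₁⁻¹ * g₂ ∈ C ∨ g₁⁻¹ * g₃ ∈ C ∨ g₁⁻¹ * g₄ ∈ C ∨ g₂⁻¹ * g₃ ∈ C ∨ g₂⁻¹ * g₄ ∈ C ∨
      g₃⁻¹ * g₄ ∈ C := by
  have key : ∀ {a g g' : P}, a⁻¹ * g ∈ C → a⁻¹ * g' ∈ C → g⁻¹ * g' ∈ C := fun hg hg' =>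
    rel_trans (rel_symm hg) hg'
  rcases (h.cover g₁).resolve_left h₁ with a | a | a <;>
    rcases (h.cover g₂).resolve_left h₂ with b | b | b <;>
    first
    | exact Or.inl (key a b)
    | rcases (h.cover g₃).resolve_left h₃ with c | c | c <;>
        first
        | exact Or.inr (Or.inl (key a c))
        | exact Or.inr (Or.inr (Or.inr (Or.inl (key b c))))
        | rcases (h.cover g₄).resolve_left h₄ with d | d | d <;>
            first
            | exact Or.inr (Or.inr (Or.inl (key a d)))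
            | exact Or.inr (Or.inr (Or.inr (Or.inr (Or.inl (key b d)))))
            | exact Or.inr (Or.inr (Or.inr (Or.inr (Or.inr (key c d)))))

theorem not_mem_image (β : MulAut P) (hβ : Odd (orderOf β)) {g : P} (hg : g ∉ C) : β g ∉ C := by
  intro hc
  exact hg (β.injective (h.fix β hβ _ hc) ▸ hc)

theorem image_rel (β : MulAut P) (hβ : Odd (orderOf β)) {a b : P} :
    (β a)⁻¹ * β b ∈ C ↔ a⁻¹ * b ∈ C := by
  rw [← map_inv, ← map_mul]
  refine ⟨fun hc => ?_, fun hc => (h.fix β hβ _ hc).symm ▸ hc⟩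
  by_contra hn
  exact h.not_mem_image β hβ hn hc

omit h in
theorem odd_sq {β : MulAut P} (hβ : Odd (orderOf β)) : Odd (orderOf (β ^ 2)) := by
  refine hβ.of_dvd_nat (orderOf_pow_dvd 2)

omit h in
theorem sq_ne_one {β : MulAut P} (hβ : Odd (orderOf β)) (hne : β ≠ 1) : β ^ 2 ≠ 1 := by
  intro h2
  have := orderOf_dvd_of_pow_eq_one h2
  rcases (Nat.dvd_prime Nat.prime_two).1 this with h1 | h1
  · exact hne (orderOf_eq_one_iff.1 h1)
  · rw [h1] at hβ
    exact absurd hβ (by decide)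

/-- An automorphism of odd order fixing one nontrivial coset is trivial. -/
theorem eq_one_of_fix (β : MulAut P) (hβ : Odd (orderOf β)) {g : P} (hg : g ∉ C)
    (hgc : g⁻¹ * β g ∈ C) : β = 1 := by
  have hall : ∀ a ∉ C, a⁻¹ * (β ^ 2) a ∈ C := by
    intro a ha
    rw [sq, MulAut.mul_apply]
    have h1 := h.not_mem_image β hβ ha
    have h2 := h.not_mem_image β hβ h1
    have hkey : ∀ {b : P}, g⁻¹ * b ∈ C → b⁻¹ * β b ∈ C := fun hb =>
      rel_trans (rel_trans (rel_symm hb) hgc) ((h.image_rel β hβ).2 hb)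
    by_cases hga : g⁻¹ * a ∈ C
    · exact rel_trans (hkey hga) ((h.image_rel β hβ).2 (hkey hga))
    have hga1 : g⁻¹ * β a ∉ C := fun hc =>
      hga ((h.image_rel β hβ).1 (rel_trans (rel_symm hgc) hc))
    have hga2 : g⁻¹ * β (β a) ∉ C := fun hc =>
      hga1 ((h.image_rel β hβ).1 (rel_trans (rel_symm hgc) hc))
    rcases h.four hg ha h1 h2 with c | c | c | c | c | c
    · exact absurd c hga
    · exact absurd c hga1
    · exact absurd c hga2
    · exact rel_trans c ((h.image_rel β hβ).2 c)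
    · exact c
    · exact rel_trans ((h.image_rel β hβ).1 c) c
  have h4 : (β ^ 2) * (β ^ 2) = 1 := by
    refine MulEquiv.ext fun a => ?_
    rw [MulAut.mul_apply, MulAut.one_apply]
    by_cases ha : a ∈ C
    · rw [h.fix _ (odd_sq hβ) a ha, h.fix _ (odd_sq hβ) a ha]
    set γ := β ^ 2
    set c := a⁻¹ * γ a with hc
    have hcC : c ∈ C := hall a ha
    have hγa : γ a = a * c := by rw [hc, mul_inv_cancel_left]
    have hcc : c * c = 1 := by
      have e : γ (a * a) = a * a := h.fix _ (odd_sq hβ) _ (h.sqC a)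
      rw [map_mul, hγa, show a * c * (a * c) = a * (c * a) * c by group, h.central c hcC a,
        show a * (a * c) * c = a * a * (c * c) by group] at e
      exact mul_eq_left.1 e
    rw [hγa, map_mul, hγa, h.fix _ (odd_sq hβ) c hcC, mul_assoc, hcc, mul_one]
  by_contra hne
  exact sq_ne_one (odd_sq hβ) (sq_ne_one hβ hne) (by rw [sq]; exact h4)

theorem moves (β : MulAut P) (hβ : Odd (orderOf β)) (hne : β ≠ 1) {g : P} (hg : g ∉ C) :
    g⁻¹ * β g ∉ C := fun hc => hne (h.eq_one_of_fix β hβ hg hc)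

/-- The cosets of `g`, `β g` and `β² g` are all of them. -/
theorem orbit (β : MulAut P) (hβ : Odd (orderOf β)) (hne : β ≠ 1) {g a : P} (hg : g ∉ C)
    (ha : a ∉ C) : g⁻¹ * a ∈ C ∨ (β g)⁻¹ * a ∈ C ∨ (β (β g))⁻¹ * a ∈ C := by
  have h1 := h.not_mem_image β hβ hg
  have h2 := h.not_mem_image β hβ h1
  rcases h.four hg h1 h2 ha with c | c | c | c | c | c
  · exact absurd c (h.moves β hβ hne hg)
  · exact absurd (show g⁻¹ * (β ^ 2) g ∈ C by rwa [sq, MulAut.mul_apply])
      (h.moves _ (odd_sq hβ) (sq_ne_one hβ hne) hg)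
  · exact Or.inl c
  · exact absurd c (h.moves β hβ hne h1)
  · exact Or.inr (Or.inl c)
  · exact Or.inr (Or.inr c)

/-- A group of automorphisms containing the inner ones and a nontrivial element of odd order
contains every automorphism of odd order. -/
theorem mem_of_odd {H : Subgroup (MulAut P)} (hH : Cfsg.Inn P ≤ H) {α : MulAut P} (hαH : α ∈ H)
    (hα : Odd (orderOf α)) (hαne : α ≠ 1) {β : MulAut P} (hβ : Odd (orderOf β)) : β ∈ H := by
  by_cases hβne : β = 1
  · exact hβne ▸ H.one_mem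
  obtain ⟨α₁, h₁H, h₁, h₁ne, hu1⟩ : ∃ α₁ ∈ H, Odd (orderOf α₁) ∧ α₁ ≠ 1 ∧
      (α₁ u)⁻¹ * β u ∈ C := by
    rcases h.orbit α hα hαne h.hu (h.not_mem_image β hβ h.hu) with c | c | c
    · exact absurd c (h.moves β hβ hβne h.hu)
    · exact ⟨α, hαH, hα, hαne, c⟩
    · exact ⟨α ^ 2, H.pow_mem hαH 2, odd_sq hα, sq_ne_one hα hαne, by
        rwa [sq, MulAut.mul_apply]⟩
  have hu2 : (α₁ (α₁ u))⁻¹ * β (α₁ u) ∈ C := by
    have hb := (h.image_rel β hβ).2 hu1
    rcases h.orbit α₁ h₁ h₁ne h.hu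
      (h.not_mem_image β hβ (h.not_mem_image α₁ h₁ h.hu)) with c | c | c
    · exact absurd (show u⁻¹ * (β ^ 2) u ∈ C by rw [sq, MulAut.mul_apply]; exact rel_trans c hb)
        (h.moves _ (odd_sq hβ) (sq_ne_one hβ hβne) h.hu)
    · exact absurd ((h.image_rel β hβ).1 (rel_trans (rel_symm hu1) c))
        (h.moves α₁ h₁ h₁ne h.hu)
    · exact c
  have hall : ∀ a, (α₁ a)⁻¹ * β a ∈ C := by
    intro a
    by_cases ha : a ∈ C
    · rw [h.fix α₁ h₁ a ha, h.fix β hβ a ha, inv_mul_cancel]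
      exact C.one_mem
    have key : ∀ {g : P}, (α₁ g)⁻¹ * β g ∈ C → g⁻¹ * a ∈ C → (α₁ a)⁻¹ * β a ∈ C := fun hg hga =>
      rel_trans (rel_trans (rel_symm ((h.image_rel α₁ h₁).2 hga)) hg) ((h.image_rel β hβ).2 hga)
    rcases h.orbit α₁ h₁ h₁ne h.hu ha with c | c | c
    · exact key hu1 c
    · exact key hu2 c
    refine key ?_ c
    set u1 := α₁ u with hu1def
    set u2 := α₁ u1 with hu2def
    have hu1C : u1 ∉ C := h.not_mem_image α₁ h₁ h.hu
    have hu2C : u2 ∉ C := h.not_mem_image α₁ h₁ hu1C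
    have hA : ∀ {g : P}, g ∉ C → u1⁻¹ * g ∉ C → u2⁻¹ * g ∉ C → u⁻¹ * g ∈ C := fun hg n1 n2 => by
      rcases h.orbit α₁ h₁ h₁ne h.hu hg with c | c | c
      exacts [c, absurd c n1, absurd c n2]
    have e1 : u⁻¹ * α₁ u2 ∈ C := hA (h.not_mem_image α₁ h₁ hu2C)
      (fun hc => by
        have := (h.image_rel α₁ h₁).1 hc
        exact h.moves _ (odd_sq h₁) (sq_ne_one h₁ h₁ne) h.hu (by rwa [sq, MulAut.mul_apply]))
      (fun hc => h.moves α₁ h₁ h₁ne hu1C ((h.image_rel α₁ h₁).1 hc))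
    have e2 : u⁻¹ * β u2 ∈ C := hA (h.not_mem_image β hβ hu2C)
      (fun hc => by
        have := (h.image_rel β hβ).1 (rel_trans (rel_symm hu1) hc)
        exact h.moves _ (odd_sq h₁) (sq_ne_one h₁ h₁ne) h.hu (by rwa [sq, MulAut.mul_apply]))
      (fun hc => h.moves α₁ h₁ h₁ne hu1C
        ((h.image_rel β hβ).1 (rel_trans (rel_symm hu2) hc)))
    exact rel_trans (rel_symm e1) e2
  set γ := α₁⁻¹ * β with hγ
  have hfix : ∀ a, a⁻¹ * γ a ∈ C := by
    intro a
    have e : α₁ (a⁻¹ * γ a) = (α₁ a)⁻¹ * β a := by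
      rw [map_mul, map_inv, hγ, MulAut.mul_apply, MulAut.apply_inv_self]
    have h1 := hall a
    rw [← e] at h1
    by_contra hc
    exact h.not_mem_image α₁ h₁ hc h1
  have hγC : ∀ c ∈ C, γ c = c := fun c hc => by
    rw [hγ, MulAut.mul_apply, h.fix β hβ c hc]
    exact α₁.injective (by rw [MulAut.apply_inv_self, h.fix α₁ h₁ c hc])
  have hcor : ∀ a, γ a = a ∨ γ a = a * f := by
    intro a
    set c := a⁻¹ * γ a with hc
    have hcC : c ∈ C := hfix a
    have hγa : γ a = a * c := by rw [hc, mul_inv_cancel_left]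
    have e : γ (a * a) = a * a := hγC _ (h.sqC a)
    rw [map_mul, hγa, show a * c * (a * c) = a * (c * a) * c by group, h.central c hcC a,
      show a * (a * c) * c = a * a * (c * c) by group] at e
    rcases h.invol c hcC (mul_eq_left.1 e) with c1 | c1 <;> rw [hγa, c1]
    · exact Or.inl (mul_one a)
    · exact Or.inr rfl
  obtain ⟨g, hgu, hgw⟩ : ∃ g : P, MulAut.conj g u = γ u ∧ MulAut.conj g w = γ w := by
    simp only [MulAut.conj_apply]
    rcases hcor u with hu | hu <;> rcases hcor w with hw | hw <;> rw [hu, hw]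
    · exact ⟨1, by simp, by simp⟩
    · exact ⟨u, by simp, h.conj_w⟩
    · exact ⟨w, h.conj_u, by simp⟩
    · refine ⟨u * w, ?_, ?_⟩
      · rw [show u * w * u * (u * w)⁻¹ = u * (w * u * w⁻¹) * u⁻¹ by group, h.conj_u,
          show u * (u * f) * u⁻¹ = u * (u * f * u⁻¹) by group, ← h.central f h.f_mem u,
          mul_inv_cancel_right, h.central f h.f_mem u]
      · rw [show u * w * w * (u * w)⁻¹ = u * w * u⁻¹ by group, h.conj_w]
  have heq : MulAut.conj g = γ := by
    have hC : ∀ c ∈ C, MulAut.conj g c = γ c := fun c hc => by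
      rw [hγC c hc, MulAut.conj_apply, ← h.central c hc g, mul_inv_cancel_right]
    refine MulEquiv.ext fun a => ?_
    rcases h.cover a with hc | hc | hc | hc
    · exact hC a hc
    all_goals
      have e := hC _ hc
      simp only [map_mul, map_inv, hgu, hgw] at e
      exact mul_left_cancel e
  have hγH : γ ∈ H := heq ▸ hH ⟨g, rfl⟩
  rw [show β = α₁ * γ by rw [hγ, mul_inv_cancel_left]]
  exact H.mul_mem h₁H hγH

/-- A homomorphism killing `C` and invariant under a nontrivial automorphism of odd order kills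
the whole group. -/
theorem hom_eq_one {B : Type*} [CommGroup B] (θ : P →* B) (hC : ∀ c ∈ C, θ c = 1) {α : MulAut P}
    (hα : Odd (orderOf α)) (hne : α ≠ 1) (hinv : ∀ a, θ (α a) = θ a) (a : P) : θ a = 1 := by
  have hrel : ∀ {a b : P}, a⁻¹ * b ∈ C → θ a = θ b := fun hab => by
    have := hC _ hab
    rwa [map_mul, map_inv, inv_mul_eq_one] at this
  have hall : ∀ {b : P}, b ∉ C → θ b = θ u := fun hb => by
    rcases h.orbit α hα hne h.hu hb with c | c | c <;> have e := hrel c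
    · exact e.symm
    · rw [hinv] at e; exact e.symm
    · rw [hinv, hinv] at e; exact e.symm
  have hu1 : θ u = 1 := by
    have e := hall h.huw
    rw [map_mul, hall h.hw] at e
    exact mul_eq_left.1 e
  by_cases ha : a ∈ C
  · exact hC a ha
  · rw [hall ha, hu1]

end Quartet

end Cfsg.Agent.Fusion.RankTwoRealize
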