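import Cfsg.Agent.Lib.Fusion.RankTwoRealize.Quartet
import Cfsg.Agent.Lib.Fusion.Stabilizer
import Cfsg.Agent.Lib.TwoGroups.WreathedDiag

/-!
Wreathed 2-groups: the self-centralizing subgroups with automorphisms of odd order.
-/

set_option autoImplicit false

namespace Cfsg.Agent.TwoGroups.WRGen

open Cfsg.Agent.Fusion.RankTwoRealize

/-- An automorphism of odd order killing `c` by a power of 2 fixes `c`. -/
theorem odd_fix {A : Type*} [Group A] {β : MulAut A} (hβ : Odd (orderOf β)) {c : A} {N : ℕ}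
    (hc : c ^ ((2 : ℤ) ^ N) = 1) {d : ℤ} (hd : β c = c ^ d) : β c = c := by
  by_cases h2 : (2 : ℤ) ∣ d
  · have hc1 : c = 1 := by
      obtain ⟨d', rfl⟩ := h2
      refine (β ^ N).map_eq_one_iff.1 ?_
      have hit : ∀ n : ℕ, (β ^ n) c = c ^ ((2 * d') ^ n) := fun n => by
        induction n with
        | zero => simp
        | succ n ih => rw [pow_succ', MulAut.mul_apply, ih, map_zpow, hd, ← zpow_mul, pow_succ']
      rw [hit, mul_pow, zpow_mul, hc, one_zpow]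
    rw [hc1, map_one]
  have hit : ∀ n : ℕ, (β ^ n) c = c ^ (d ^ n) := fun n => by
    induction n with
    | zero => simp
    | succ n ih => rw [pow_succ', MulAut.mul_apply, ih, map_zpow, hd, ← zpow_mul, pow_succ']
  have hfix : (β ^ 2 ^ N) c = c := by
    obtain ⟨t, ht⟩ := two_pow_dvd_pow_sub_one h2 N
    rw [hit, show d ^ 2 ^ N = 2 ^ N * (2 * t) + 1 by rw [pow_succ] at ht; linear_combination ht,
      zpow_add, zpow_mul, hc, one_zpow, one_mul, zpow_one]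
  obtain ⟨m, hm⟩ := exists_pow_eq_self_of_coprime (n := 2 ^ N) (x := β)
    ((Nat.coprime_two_left.2 hβ).pow_left N)
  rw [← hm, pow_apply_fixed _ hfix]

universe u

variable {S : Type u} [Group S] [Finite S] {x y z : S} {n : ℕ} (h : WRGen x y z n)
include h

theorem pr_mem_base_one (i j : ℤ) : pr x y i j ∈ h.base 1 :=
  (h.pr_mem_base (one_dvd _)).2 (one_dvd _)

theorem mem_base_one {g : S} (hg : g ∈ h.base 1) : ∃ i j : ℤ, g = pr x y i j := by
  obtain ⟨i, j, rfl, -⟩ := hg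
  exact ⟨i, j, rfl⟩

theorem mul_self_mem_base (g : S) : g * g ∈ h.base 1 := by
  obtain ⟨i, j, rfl | rfl⟩ := h.exists_form g
  · rw [h.pr_mul]; exact h.pr_mem_base_one _ _
  · rw [h.prz_mul_prz]; exact h.pr_mem_base_one _ _

theorem commute_base {g g' : S} (hg : g ∈ h.base 1) (hg' : g' ∈ h.base 1) : g * g' = g' * g := by
  obtain ⟨i, j, rfl⟩ := h.mem_base_one hg
  obtain ⟨k, l, rfl⟩ := h.mem_base_one hg'
  exact h.pr_comm _ _ _ _

/-- An automorphism of odd order of `diag (2 ^ a) e` preserving its part in `base 1` is trivial. -/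
theorem eq_one_of_preserves {a : ℕ} (ha : a ≤ n) {e : ℤ} (σ : MulAut ↥(h.diag (2 ^ a) e))
    (hσ : Odd (orderOf σ))
    (hM : ∀ w : h.diag (2 ^ a) e, (σ w : S) ∈ h.base 1 ↔ (w : S) ∈ h.base 1) : σ = 1 := by
  have hk : 2 ^ a ∣ 2 ^ n := pow_dvd_pow 2 ha
  let g : h.diag (2 ^ a) e := ⟨pr x y e 0 * z, (h.prz_mem_diag hk).2 (by simp)⟩
  have hcen : ∀ w : h.diag (2 ^ a) e, (w : S) ∈ Subgroup.center S ↔
      (w : S) ∈ h.base 1 ∧ ∀ v : h.diag (2 ^ a) e, w * v = v * w := by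
    rintro ⟨w, hw⟩
    constructor
    · intro hc
      refine ⟨?_, fun v => Subtype.ext (Subgroup.mem_center_iff.1 hc _).symm⟩
      obtain ⟨i, j, rfl | rfl⟩ := h.exists_form w
      · exact h.pr_mem_base_one _ _
      · exact absurd hc (h.prz_not_mem_center i j)
    · rintro ⟨hb, hcomm⟩
      obtain ⟨i, j, hij⟩ := h.mem_base_one hb
      change w = _ at hij
      subst hij
      exact (h.pr_mem_center_iff i j).2
        ((h.commute_prz_iff e 0 i j).1 (congrArg Subtype.val (hcomm g)))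
  have hp := h.aut_pow_eq_one ha σ (fun w => by
    rw [hcen, hcen, hM]
    refine and_congr_right fun _ => ⟨fun hc v => σ.injective ?_, fun hc v => ?_⟩
    · rw [map_mul, map_mul, hc]
    · obtain ⟨v, rfl⟩ := σ.surjective v
      rw [← map_mul, ← map_mul, hc]) hM
  rw [show 2 ^ n * 2 ^ n * 2 ^ n = 2 ^ (n + n + n) by rw [pow_add, pow_add]] at hp
  exact orderOf_eq_one_iff.1 (Nat.eq_one_of_dvd_coprimes
    ((Nat.coprime_two_right.2 hσ).pow_right (n + n + n)) dvd_rfl (orderOf_dvd_of_pow_eq_one hp))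

/-- The self-centralizing subgroups with a nontrivial automorphism of odd order. -/
theorem exists_eq_of_odd_aut (Q : Subgroup S) (hQ : ∀ g : S, (∀ q ∈ Q, q * g = g * q) → g ∈ Q)
    (α : MulAut Q) (hα : Odd (orderOf α)) (hne : α ≠ 1) :
    Q = h.base 1 ∨ ∃ t : ℤ, Q = h.diag (2 ^ (n - 1)) (2 * t) := by
  have hZ : Subgroup.center S ≤ Q := fun g hg => hQ g fun q _ => Subgroup.mem_center_iff.1 hg q
  by_cases hX : ∃ i j : ℤ, pr x y i j * z ∈ Q
  swap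
  · left
    have hle : Q ≤ h.base 1 := fun g hg => by
      obtain ⟨i, j, rfl | rfl⟩ := h.exists_form g
      · exact h.pr_mem_base_one i j
      · exact absurd ⟨i, j, hg⟩ hX
    exact le_antisymm hle fun g hg => hQ g fun q hq => h.commute_base (hle hq) hg
  right
  obtain ⟨a, e, ha, rfl⟩ := h.exists_eq_diag Q hZ hX
  have hk : 2 ^ a ∣ 2 ^ n := pow_dvd_pow 2 ha
  -- reduce preservation to one direction
  have key : ∀ σ : MulAut ↥(h.diag (2 ^ a) e), Odd (orderOf σ) →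
      (∀ w : h.diag (2 ^ a) e, (w : S) ∈ h.base 1 → (σ w : S) ∈ h.base 1) → σ = 1 := fun σ hσ hM => by
    refine h.eq_one_of_preserves ha σ hσ fun w => ⟨fun hw => ?_, hM w⟩
    have hit : ∀ m : ℕ, ∀ v : h.diag (2 ^ a) e, (v : S) ∈ h.base 1 → ((σ ^ m) v : S) ∈ h.base 1 := by
      intro m
      induction m with
      | zero => exact fun v hv => hv
      | succ m ih => intro v hv; rw [pow_succ', MulAut.mul_apply]; exact hM _ (ih v hv)
    have := hit (orderOf σ - 1) _ hw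
    rwa [← MulAut.mul_apply, ← pow_succ, Nat.sub_add_cancel hσ.pos, pow_orderOf_eq_one,
      MulAut.one_apply] at this
  by_cases h2 : a + 2 ≤ n
  · exfalso
    refine hne (key α hα fun m hm => ?_)
    by_contra hout
    let u : h.diag (2 ^ a) e := ⟨pr x y ((2 : ℤ) ^ a) 0, (h.pr_mem_diag hk).2 (by simp)⟩
    obtain ⟨w, hw⟩ := α.surjective u
    have hc : (m : h.diag (2 ^ a) e) * (w * w) = w * w * m :=
      Subtype.ext (h.commute_base hm (h.mul_self_mem_base _))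
    have hc' := congrArg Subtype.val (congrArg α hc)
    simp only [map_mul, hw, Subgroup.coe_mul] at hc'
    obtain ⟨i, j, hij | hij⟩ := h.exists_form (α m : S)
    · exact hout (hij ▸ h.pr_mem_base_one _ _)
    rw [hij, h.pr_mul] at hc'
    have hd := (h.commute_prz_iff i j _ _).1 hc'.symm
    rw [show (2 : ℤ) ^ a + 2 ^ a - (0 + 0) = 2 ^ (a + 1) by ring] at hd
    have := Int.le_of_dvd (by positivity) hd
    have h3 : (2 : ℤ) ^ (a + 1) < 2 ^ n := pow_lt_pow_right₀ (by norm_num) (by omega)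
    omega
  obtain ⟨N, rfl⟩ : ∃ N, n = N + 2 := ⟨n - 2, by have := h.two_le; omega⟩
  by_cases he : (2 : ℤ) ∣ e
  swap
  · exfalso
    refine hne (key α hα fun m hm => ?_)
    by_contra hout
    have hm1 : (m : h.diag (2 ^ a) e) ^ 2 ^ (N + 2) = 1 := by
      obtain ⟨i, j, hij⟩ := h.mem_base_one hm
      exact Subtype.ext (by rw [SubgroupClass.coe_pow, hij, h.pr_pow_eq_one]; rfl)
    have hm2 := congrArg Subtype.val (congrArg α hm1)
    rw [map_pow, map_one, SubgroupClass.coe_pow, OneMemClass.coe_one] at hm2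
    obtain ⟨i, j, hij | hij⟩ := h.exists_form (α m : S)
    · exact hout (hij ▸ h.pr_mem_base_one _ _)
    have hd := (h.prz_mem_diag hk).1 (hij ▸ (α m).2)
    have h2d : (2 : ℤ) ∣ i - j - e := dvd_trans (by
      obtain ⟨b, rfl⟩ : ∃ b, a = b + 1 := ⟨a - 1, by omega⟩
      push_cast; exact dvd_pow_self 2 b.succ_ne_zero) hd
    rw [hij, pow_succ', pow_mul, h.prz_sq, ← zpow_natCast, h.pr_zpow, h.pr_eq_one_iff] at hm2
    obtain ⟨t, ht⟩ := hm2.1
    push_cast at ht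
    have : i + j = 2 * t :=
      mul_left_cancel₀ (show (2 : ℤ) ^ (N + 1) ≠ 0 by positivity) (by linear_combination ht)
    omega
  obtain ⟨t, rfl⟩ := he
  rcases eq_or_ne a (N + 1) with rfl | haN
  · exact ⟨t, rfl⟩
  obtain rfl : a = N + 2 := by omega
  exfalso
  have hsub : ∀ g ∈ h.diag (2 ^ (N + 2)) (2 * t), ∃ c : ℤ,
      g = pr x y c c ∨ g = pr x y c c * (pr x y t (-t) * z) := by
    intro g hg
    obtain ⟨i, j, rfl | rfl⟩ := h.exists_form g
    · obtain ⟨d, hd⟩ := (h.pr_mem_diag hk).1 hg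
      push_cast at hd
      exact ⟨i, Or.inl ((h.pr_eq_iff _ _ _ _).2 ⟨⟨0, by ring⟩, ⟨-d, by linear_combination -hd⟩⟩)⟩
    · obtain ⟨d, hd⟩ := (h.prz_mem_diag hk).1 hg
      push_cast at hd
      refine ⟨i - t, Or.inr ?_⟩
      rw [h.pr_mul_prz, h.prz_eq_iff]
      exact ⟨⟨0, by ring⟩, ⟨-d, by linear_combination -hd⟩⟩
  let c : h.diag (2 ^ (N + 2)) (2 * t) := ⟨pr x y 1 1, (h.pr_mem_diag hk).2 (by simp)⟩
  let g' : h.diag (2 ^ (N + 2)) (2 * t) :=
    ⟨pr x y t (-t) * z, (h.prz_mem_diag hk).2 (by rw [show t - -t - 2 * t = 0 by ring]; exact dvd_zero _)⟩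
  have hgg : g' * g' = 1 := Subtype.ext (by
    show pr x y t (-t) * z * (pr x y t (-t) * z) = 1
    rw [h.prz_mul_prz, h.pr_eq_one_iff]; simp)
  have hcz : ∀ i : ℤ, ((c ^ i : h.diag (2 ^ (N + 2)) (2 * t)) : S) = pr x y i i := fun i => by
    rw [SubgroupClass.coe_zpow, h.pr_zpow, one_mul]
  have hmem : ∀ w : h.diag (2 ^ (N + 2)) (2 * t), ∃ i : ℤ, w = c ^ i ∨ w = c ^ i * g' := by
    intro w
    obtain ⟨i, hi | hi⟩ := hsub _ w.2
    · exact ⟨i, Or.inl (Subtype.ext (hi.trans (hcz i).symm))⟩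
    · exact ⟨i, Or.inr (Subtype.ext (by rw [Subgroup.coe_mul, hcz]; exact hi))⟩
  obtain ⟨a1, hα1⟩ := hmem (α c)
  obtain ⟨a2, hα2⟩ := hmem (α g')
  have hgA : (g' : S) ∉ h.base 1 := h.prz_not_mem_base
  have hcA : ∀ i : ℤ, ((c ^ i : h.diag (2 ^ (N + 2)) (2 * t)) : S) ∈ h.base 1 := fun i => by
    rw [hcz]; exact h.pr_mem_base_one i i
  have hpow : ∀ i : ℤ, c ^ i = 1 ↔ (2 : ℤ) ^ (N + 2) ∣ i := fun i => by
    rw [← Subtype.coe_inj, hcz, OneMemClass.coe_one, h.pr_eq_one_iff, and_self]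
  -- `α g'` lies outside the base
  have hα2' : α g' = c ^ a2 * g' := by
    refine hα2.resolve_left fun hh => hgA ?_
    have e2 : c ^ (a2 + a2) = 1 := by rw [zpow_add, ← hh, ← map_mul, hgg, map_one]
    obtain ⟨d, hd⟩ := (hpow _).1 e2
    have ha2 : a2 = 2 ^ (N + 1) * d := by
      refine mul_left_cancel₀ (show (2 : ℤ) ≠ 0 by norm_num) ?_
      linear_combination hd
    have hsq : g' = α⁻¹ (c ^ (2 ^ N * d)) * α⁻¹ (c ^ (2 ^ N * d)) := by
      rw [← map_mul, ← zpow_add, show 2 ^ N * d + 2 ^ N * d = a2 by rw [ha2]; ring, ← hh,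
        MulAut.inv_apply_self]
    rw [hsq, Subgroup.coe_mul]
    exact h.mul_self_mem_base _
  have ha2 : (2 : ℤ) ∣ a2 := by
    have e2 : c ^ a2 * g' * (c ^ a2 * g') = 1 := by rw [← hα2', ← map_mul, hgg, map_one]
    have e3 := congrArg Subtype.val e2
    simp only [Subgroup.coe_mul, hcz, OneMemClass.coe_one] at e3
    rw [show (g' : S) = pr x y t (-t) * z from rfl, h.pr_mul_prz, h.prz_mul_prz,
      h.pr_eq_one_iff] at e3
    obtain ⟨d, hd⟩ := e3.1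
    exact dvd_trans (dvd_pow_self 2 (show N + 1 ≠ 0 by omega))
      ⟨d, mul_left_cancel₀ (show (2 : ℤ) ≠ 0 by norm_num) (by linear_combination hd)⟩
  have hcomm : ∀ (i : ℤ), g' * c ^ i = c ^ i * g' := fun i => Subtype.ext (by
    rw [Subgroup.coe_mul, Subgroup.coe_mul, hcz, show (g' : S) = pr x y t (-t) * z from rfl]
    exact ((h.commute_prz_iff t (-t) i i).2 (by simp)).symm)
  have hsq : ((α ^ 2) c : S) ∈ h.base 1 := by
    rw [sq, MulAut.mul_apply]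
    rcases hα1 with hh | hh
    · rw [hh, map_zpow, hh, ← zpow_mul]; exact hcA _
    · obtain ⟨b, rfl⟩ : Odd a1 := by
        refine Int.not_even_iff_odd.1 fun hv => ?_
        obtain ⟨b, rfl⟩ := hv.two_dvd
        have e1 : α (c ^ ((2 : ℤ) ^ (N + 1))) = 1 := by
          rw [map_zpow, hh, Commute.mul_zpow (hcomm _).symm, ← zpow_mul,
            (hpow _).2 ⟨b, by ring⟩, one_mul, show ((2 : ℤ) ^ (N + 1)) = 2 * 2 ^ N from pow_succ' 2 N,
            zpow_mul, zpow_two, hgg, one_zpow]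
        have := Int.le_of_dvd (by positivity) ((hpow _).1 (α.map_eq_one_iff.1 e1))
        have : (0 : ℤ) < 2 ^ (N + 1) := by positivity
        rw [pow_succ _ (N + 1)] at *
        omega
      obtain ⟨a2', rfl⟩ := ha2
      rw [hh, map_mul, map_zpow, hh, hα2', Commute.mul_zpow (hcomm _).symm, ← zpow_mul,
        show g' ^ (2 * b + 1) = g' by rw [zpow_add, zpow_mul, zpow_two, hgg, one_zpow, one_mul, zpow_one],
        mul_assoc, ← mul_assoc g', hcomm, mul_assoc _ g' g', hgg, mul_one, ← zpow_add]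
      exact hcA _
  have h2odd : Odd (orderOf (α ^ 2)) := hα.of_dvd_nat (orderOf_pow_dvd 2)
  refine Quartet.sq_ne_one hα hne (key _ h2odd fun m hm => ?_)
  obtain ⟨i, rfl | rfl⟩ := hmem m
  · rw [map_zpow, SubgroupClass.coe_zpow]; exact Subgroup.zpow_mem _ hsq i
  · exact absurd ((Subgroup.mul_mem_cancel_left _ (hcA i)).1 hm) hgA

/-- The quartet structure of `diag (2 ^ (n - 1)) (2 t)`. -/
theorem exists_quartet (t : ℤ) :
    ∃ (C : Subgroup ↥(h.diag (2 ^ (n - 1)) (2 * t))) (u w f : ↥(h.diag (2 ^ (n - 1)) (2 * t))),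
      Quartet C u w f ∧ (w : S) = pr x y t (-t) * z ∧
      ∀ v : ↥(h.diag (2 ^ (n - 1)) (2 * t)), v ∈ C ↔ ∃ d : ℤ, (v : S) = pr x y d d := by
  obtain ⟨N, rfl⟩ : ∃ N, n = N + 2 := ⟨n - 2, by have := h.two_le; omega⟩
  show ∃ (C : Subgroup ↥(h.diag (2 ^ (N + 1)) (2 * t))) (u w f : ↥(h.diag (2 ^ (N + 1)) (2 * t))),
      Quartet C u w f ∧ (w : S) = pr x y t (-t) * z ∧
      ∀ v : ↥(h.diag (2 ^ (N + 1)) (2 * t)), v ∈ C ↔ ∃ d : ℤ, (v : S) = pr x y d d
  have hk : 2 ^ (N + 1) ∣ 2 ^ (N + 2) := pow_dvd_pow 2 (Nat.le_succ _)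
  let Q := h.diag (2 ^ (N + 1)) (2 * t)
  let c : Q := ⟨pr x y 1 1, (h.pr_mem_diag hk).2 (by simp)⟩
  let u : Q := ⟨pr x y ((2 : ℤ) ^ (N + 1)) 0, (h.pr_mem_diag hk).2 (by simp)⟩
  let w : Q := ⟨pr x y t (-t) * z, (h.prz_mem_diag hk).2
    (by rw [show t - -t - 2 * t = 0 by ring]; exact dvd_zero _)⟩
  let f : Q := c ^ ((2 : ℤ) ^ (N + 1))
  have hcz : ∀ i : ℤ, ((c ^ i : Q) : S) = pr x y i i := fun i => by
    rw [SubgroupClass.coe_zpow, h.pr_zpow, one_mul]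
  have hC : ∀ v : Q, v ∈ Subgroup.zpowers c ↔ ∃ d : ℤ, (v : S) = pr x y d d := fun v => by
    refine ⟨?_, fun ⟨d, hd⟩ => Subgroup.mem_zpowers_iff.2 ⟨d, Subtype.ext ((hcz d).trans hd.symm)⟩⟩
    intro hv
    obtain ⟨d, rfl⟩ := Subgroup.mem_zpowers_iff.1 hv
    exact ⟨d, hcz d⟩
  have hq : ¬ (2 : ℤ) ^ (N + 2) ∣ 2 ^ (N + 1) := fun hd => by
    have := Int.le_of_dvd (by positivity) hd
    have h3 : (2 : ℤ) ^ (N + 1) < 2 ^ (N + 2) := pow_lt_pow_right₀ (by norm_num) (by omega)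
    omega
  -- central elements
  have hcen : ∀ v : Q, (∃ d : ℤ, (v : S) = pr x y d d) ↔ ∀ g : Q, v * g = g * v := by
    intro v
    constructor
    · rintro ⟨d, hd⟩ g
      refine Subtype.ext ?_
      rw [Subgroup.coe_mul, Subgroup.coe_mul, hd]
      exact (Subgroup.mem_center_iff.1 ((h.pr_mem_center_iff d d).2 (by simp)) _).symm
    · intro hv
      have hu := congrArg Subtype.val (hv u)
      have hw := congrArg Subtype.val (hv w)
      simp only [Subgroup.coe_mul, u, w] at hu hw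
      obtain ⟨i, j, hij | hij⟩ := h.exists_form (v : S)
      · rw [hij] at hw
        obtain ⟨d, hd⟩ := (h.commute_prz_iff t (-t) i j).1 hw
        exact ⟨i, hij.trans ((h.pr_eq_iff _ _ _ _).2 ⟨⟨0, by ring⟩, ⟨-d, by linear_combination -hd⟩⟩)⟩
      · rw [hij] at hu
        exact absurd (by simpa using (h.commute_prz_iff i j _ 0).1 hu.symm) hq
  have hsq : ∀ g : Q, ∃ d : ℤ, ((g * g : Q) : S) = pr x y d d := by
    intro g
    rw [Subgroup.coe_mul]
    obtain ⟨i, j, hij | hij⟩ := h.exists_form (g : S)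
    · obtain ⟨d, hd⟩ := (h.pr_mem_diag hk).1 (hij ▸ g.2)
      push_cast at hd
      exact ⟨i + i, by rw [hij, h.pr_mul, h.pr_eq_iff]; exact ⟨⟨0, by ring⟩, ⟨-d, by linear_combination (-2) * hd⟩⟩⟩
    · exact ⟨i + j, by rw [hij, h.prz_mul_prz]; ring_nf⟩
  have hfix : ∀ β : MulAut Q, Odd (orderOf β) → ∀ v ∈ Subgroup.zpowers c, β v = v := by
    intro β hβ v hv
    obtain ⟨d, hd⟩ := (hcen (β c)).2 fun g => by
      obtain ⟨g, rfl⟩ := β.surjective g
      rw [← map_mul, ← map_mul, (hcen c).1 ⟨1, rfl⟩ g]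
    have hc1 : c ^ ((2 : ℤ) ^ (N + 2)) = 1 := Subtype.ext (by
      rw [hcz, OneMemClass.coe_one, h.pr_eq_one_iff]; exact ⟨dvd_rfl, dvd_rfl⟩)
    have := odd_fix hβ hc1 (d := d) (Subtype.ext (hd.trans (hcz d).symm))
    obtain ⟨i, rfl⟩ := Subgroup.mem_zpowers_iff.1 hv
    rw [map_zpow, this]
  refine ⟨Subgroup.zpowers c, u, w, f,
    { fix := hfix
      central := fun v hv => (hcen v).1 ((hC v).1 hv)
      cover := fun g => ?_
      invol := fun v hv hvv => ?_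
      sqC := fun g => (hC _).2 (hsq g)
      f_mem := Subgroup.zpow_mem _ (Subgroup.mem_zpowers c) _
      hu := fun hv => ?_
      hw := fun hv => ?_
      huw := fun hv => ?_
      conj_u := ?_
      conj_w := ?_ }, rfl, hC⟩
  · obtain ⟨i, j, hij | hij⟩ := h.exists_form (g : S)
    · obtain ⟨d, hd⟩ := (h.pr_mem_diag hk).1 (hij ▸ g.2)
      push_cast at hd
      rcases Int.even_or_odd d with ⟨b, rfl⟩ | ⟨b, rfl⟩
      · refine Or.inl ((hC g).2 ⟨i, hij.trans ((h.pr_eq_iff _ _ _ _).2 ⟨⟨0, by ring⟩, ⟨-b, ?_⟩⟩)⟩)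
        linear_combination -hd
      · refine Or.inr (Or.inl ((hC _).2 ⟨j, ?_⟩))
        rw [Subgroup.coe_mul, Subgroup.coe_inv, hij, show (u : S) = pr x y _ 0 from rfl, h.pr_inv,
          h.pr_mul, h.pr_eq_iff]
        exact ⟨⟨b, by linear_combination hd⟩, ⟨0, by ring⟩⟩
    · obtain ⟨d, hd⟩ := (h.prz_mem_diag hk).1 (hij ▸ g.2)
      push_cast at hd
      rcases Int.even_or_odd d with ⟨b, rfl⟩ | ⟨b, rfl⟩
      · refine Or.inr (Or.inr (Or.inl ((hC _).2 ⟨j + t, ?_⟩)))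
        rw [Subgroup.coe_mul, Subgroup.coe_inv, hij, show (w : S) = pr x y t (-t) * z from rfl,
          h.prz_inv, h.prz_mul_prz, h.pr_eq_iff]
        exact ⟨⟨0, by ring⟩, ⟨b, by linear_combination hd⟩⟩
      · refine Or.inr (Or.inr (Or.inr ((hC _).2 ⟨j + t, ?_⟩)))
        rw [Subgroup.coe_mul, Subgroup.coe_inv, hij, Subgroup.coe_mul,
          show (w : S) = pr x y t (-t) * z from rfl, show (u : S) = pr x y _ 0 from rfl,
          h.pr_mul_prz, h.prz_inv, h.prz_mul_prz, h.pr_eq_iff]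
        exact ⟨⟨0, by ring⟩, ⟨b, by linear_combination hd⟩⟩
  · obtain ⟨i, rfl⟩ := Subgroup.mem_zpowers_iff.1 hv
    have e := congrArg Subtype.val hvv
    rw [Subgroup.coe_mul, hcz, h.pr_mul, OneMemClass.coe_one, h.pr_eq_one_iff] at e
    obtain ⟨d, hd⟩ := e.1
    have hi : i = 2 ^ (N + 1) * d :=
      mul_left_cancel₀ (show (2 : ℤ) ≠ 0 by norm_num) (by linear_combination hd)
    rcases Int.even_or_odd d with ⟨b, rfl⟩ | ⟨b, rfl⟩
    · exact Or.inl (Subtype.ext (by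
        rw [hcz, OneMemClass.coe_one, h.pr_eq_one_iff, and_self]; exact ⟨b, by rw [hi]; ring⟩))
    · exact Or.inr (Subtype.ext (by
        simp only [f, hcz, h.pr_eq_iff, and_self]; exact ⟨b, by rw [hi]; ring⟩))
  · obtain ⟨d, hd⟩ := (hC u).1 hv
    obtain ⟨h1, h2⟩ := (h.pr_eq_iff _ _ _ _).1 hd
    refine hq ?_
    rw [show (2 : ℤ) ^ (N + 1) = (2 ^ (N + 1) - d) - (0 - d) by ring]
    exact dvd_sub h1 h2
  · obtain ⟨d, hd⟩ := (hC w).1 hv
    exact h.prz_ne _ _ _ _ hd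
  · obtain ⟨d, hd⟩ := (hC (u * w)).1 hv
    simp only [Subgroup.coe_mul, u, w] at hd
    rw [h.pr_mul_prz] at hd
    exact h.prz_ne _ _ _ _ hd
  · refine Subtype.ext ?_
    simp only [Subgroup.coe_mul, Subgroup.coe_inv, u, w, f, hcz]
    rw [h.conj_pr_by_prz, h.pr_mul, h.pr_eq_iff]
    exact ⟨⟨-1, by ring⟩, ⟨0, by ring⟩⟩
  · refine Subtype.ext ?_
    simp only [Subgroup.coe_mul, Subgroup.coe_inv, u, w, f, hcz]
    rw [h.conj_prz_by_pr, h.prz_mul_pr, h.prz_eq_iff]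
    exact ⟨⟨0, by ring⟩, ⟨-1, by ring⟩⟩

theorem exists_hom {G : Type*} [Group G] (x' y' z' : G) (h1 : x' ^ ((2 : ℤ) ^ n) = 1)
    (hc : x' * y' = y' * x') (h2 : z' * z' = 1) (h3 : z' * x' * z'⁻¹ = y') :
    ∃ φ : S →* G, φ x = x' ∧ φ y = y' ∧ φ z = z' := by
  have hy1 : y' ^ ((2 : ℤ) ^ n) = 1 := by rw [← h3, conj_zpow, h1, mul_one, mul_inv_cancel]
  have hxy : ∀ i j k l : ℤ, x' ^ i * y' ^ j * (x' ^ k * y' ^ l) = x' ^ (i + k) * y' ^ (j + l) :=
    fun i j k l => by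
      rw [zpow_add, zpow_add, mul_assoc, ← mul_assoc (y' ^ j),
        ((show Commute x' y' from hc).zpow_zpow k j).symm.eq]
      simp only [mul_assoc]
  have hz : ∀ i j : ℤ, z' * (x' ^ i * y' ^ j) = x' ^ j * y' ^ i * z' := fun i j => by
    have hzi : z'⁻¹ = z' := inv_eq_of_mul_eq_one_right h2
    have h4 : z' * y' * z'⁻¹ = x' := by
      rw [← h3, hzi]; simp only [mul_assoc]; rw [h2, mul_one, ← mul_assoc, h2, one_mul]
    rw [← ((show Commute x' y' from hc).zpow_zpow j i).symm.eq, ← mul_inv_eq_iff_eq_mul,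
      ← conj_mul, ← conj_zpow, ← conj_zpow, h3, h4]
  let R : S → G → Prop := fun g g' => ∃ i j : ℤ,
    (g = pr x y i j ∧ g' = x' ^ i * y' ^ j) ∨ (g = pr x y i j * z ∧ g' = x' ^ i * y' ^ j * z')
  have hcl : ∀ {i j k l : ℤ}, (2 : ℤ) ^ n ∣ i - k ∧ (2 : ℤ) ^ n ∣ j - l →
      x' ^ i * y' ^ j = x' ^ k * y' ^ l := by
    rintro i j k l ⟨⟨a, ha⟩, ⟨b, hb⟩⟩
    rw [show i = k + (2 : ℤ) ^ n * a by linarith, show j = l + (2 : ℤ) ^ n * b by linarith, zpow_add,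
      zpow_add, zpow_mul, zpow_mul, h1, hy1, one_zpow, one_zpow, mul_one, mul_one]
  have huniq : ∀ g g₁ g₂, R g g₁ → R g g₂ → g₁ = g₂ := by
    rintro g g₁ g₂ ⟨i, j, ⟨rfl, rfl⟩ | ⟨rfl, rfl⟩⟩ ⟨k, l, ⟨hj, rfl⟩ | ⟨hj, rfl⟩⟩
    · exact hcl ((h.pr_eq_iff _ _ _ _).1 hj)
    · exact absurd hj.symm (h.prz_ne _ _ _ _)
    · exact absurd hj (h.prz_ne _ _ _ _)
    · rw [hcl ((h.prz_eq_iff _ _ _ _).1 hj)]
  have hex : ∀ g, ∃ g', R g g' := fun g => by
    obtain ⟨i, j, hi | hi⟩ := h.exists_form g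
    · exact ⟨_, i, j, Or.inl ⟨hi, rfl⟩⟩
    · exact ⟨_, i, j, Or.inr ⟨hi, rfl⟩⟩
  have hmul : ∀ g g' l l', R g g' → R l l' → R (g * l) (g' * l') := by
    rintro g g' l l' ⟨i, j, ⟨rfl, rfl⟩ | ⟨rfl, rfl⟩⟩ ⟨i', j', ⟨rfl, rfl⟩ | ⟨rfl, rfl⟩⟩
    · exact ⟨_, _, Or.inl ⟨h.pr_mul i j i' j', hxy i j i' j'⟩⟩
    · exact ⟨_, _, Or.inr ⟨h.pr_mul_prz i j i' j', by rw [← mul_assoc, hxy]⟩⟩
    · exact ⟨_, _, Or.inr ⟨h.prz_mul_pr i j i' j', by rw [mul_assoc, hz, ← mul_assoc, hxy]⟩⟩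
    · exact ⟨_, _, Or.inl ⟨h.prz_mul_prz i j i' j', by
        rw [mul_assoc, ← mul_assoc z', hz, mul_assoc _ z', h2, mul_one, hxy]⟩⟩
  choose φ hφ using hex
  refine ⟨MonoidHom.mk' φ fun g l => huniq _ _ _ (hφ _) (hmul _ _ _ _ (hφ g) (hφ l)), ?_, ?_, ?_⟩
  · exact huniq x _ _ (hφ x) ⟨1, 0, Or.inl ⟨by simp [pr], by simp⟩⟩
  · exact huniq y _ _ (hφ y) ⟨0, 1, Or.inl ⟨by simp [pr], by simp⟩⟩
  · exact huniq z _ _ (hφ z) ⟨0, 0, Or.inr ⟨by simp [pr], by simp⟩⟩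

end Cfsg.Agent.TwoGroups.WRGen
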