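import Cfsg.Agent.Lib.Fusion.RankTwoRealize.Core
import Cfsg.Agent.Lib.Fusion.RankTwoRealize.WRShape

/-!
Saturated fusion systems over wreathed 2-groups: at most two classes of essential subgroups; after
adapting the generators, the system is determined by the stability of two homomorphisms.
-/

set_option autoImplicit false

namespace Cfsg.Agent.Fusion.RankTwoRealize.WR

open Cfsg Cfsg.FusionSystem Cfsg.Agent.Fusion Cfsg.Agent.TwoGroups Cfsg.Agent.TwoGroups.WRGen

/-! ### The homocyclic subgroup as a group -/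

section Base

universe u

variable {X : Type u} [Group X] [Finite X] {x y z : X} {n : ℕ} (h : WRGen x y z n)

/-- An element of the homocyclic subgroup. -/
def P (i j : ℤ) : ↥(h.base 1) := ⟨pr x y i j, h.pr_mem_base_one i j⟩

include h

theorem P_mul (i j k l : ℤ) : P h i j * P h k l = P h (i + k) (j + l) :=
  Subtype.ext (h.pr_mul i j k l)

theorem P_zpow (i j c : ℤ) : P h i j ^ c = P h (i * c) (j * c) :=
  Subtype.ext (by simp only [SubgroupClass.coe_zpow, P]; exact h.pr_zpow i j c)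

theorem P_eq_one_iff (i j : ℤ) : P h i j = 1 ↔ (2 : ℤ) ^ n ∣ i ∧ (2 : ℤ) ^ n ∣ j := by
  rw [← Subtype.coe_inj]; exact h.pr_eq_one_iff i j

theorem P_eq_iff (i j k l : ℤ) :
    P h i j = P h k l ↔ (2 : ℤ) ^ n ∣ i - k ∧ (2 : ℤ) ^ n ∣ j - l := by
  rw [← Subtype.coe_inj]; exact h.pr_eq_iff i j k l

theorem exists_eq_P (a : h.base 1) : ∃ i j : ℤ, a = P h i j := by
  obtain ⟨i, j, hij⟩ := h.mem_base_one a.2
  exact ⟨i, j, Subtype.ext hij⟩

theorem base_comm (a b : h.base 1) : a * b = b * a := Subtype.ext (h.commute_base a.2 b.2)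

/-- The involutions of the homocyclic subgroup. -/
theorem invol_cases {m : ℕ} (hm : n = m + 1) {v : h.base 1} (hv : v * v = 1) (hv1 : v ≠ 1) :
    v = P h ((2 : ℤ) ^ m) ((2 : ℤ) ^ m) ∨ v = P h ((2 : ℤ) ^ m) 0 ∨ v = P h 0 ((2 : ℤ) ^ m) := by
  subst hm
  obtain ⟨i, j, rfl⟩ := exists_eq_P h v
  rw [P_mul h, P_eq_one_iff h] at hv
  have half : ∀ {l : ℤ}, (2 : ℤ) ^ (m + 1) ∣ l + l →
      (2 : ℤ) ^ (m + 1) ∣ l - 0 ∨ (2 : ℤ) ^ (m + 1) ∣ l - 2 ^ m := by
    rintro l ⟨d, hd⟩
    have hl : l = 2 ^ m * d :=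
      mul_left_cancel₀ (show (2 : ℤ) ≠ 0 by norm_num) (by linear_combination hd)
    rcases Int.even_or_odd d with ⟨b, rfl⟩ | ⟨b, rfl⟩
    · exact Or.inl ⟨b, by rw [hl]; ring⟩
    · exact Or.inr ⟨b, by rw [hl]; ring⟩
  rcases half hv.1 with hi | hi <;> rcases half hv.2 with hj | hj
  · exact absurd ((P_eq_one_iff h _ _).2 ⟨by simpa using hi, by simpa using hj⟩) hv1
  · exact Or.inr (Or.inr ((P_eq_iff h _ _ _ _).2 ⟨hi, hj⟩))
  · exact Or.inr (Or.inl ((P_eq_iff h _ _ _ _).2 ⟨hi, hj⟩))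
  · exact Or.inl ((P_eq_iff h _ _ _ _).2 ⟨hi, hj⟩)

theorem isPGroup_base : IsPGroup 2 (h.base 1) := h.isPGroup.to_subgroup _

/-- An automorphism of odd order fixing the central involution is trivial. -/
theorem eq_one_of_fix {m : ℕ} (hm : n = m + 1) (β : MulAut (h.base 1)) (hβ : Odd (orderOf β))
    (hfix : β (P h ((2 : ℤ) ^ m) ((2 : ℤ) ^ m)) = P h ((2 : ℤ) ^ m) ((2 : ℤ) ^ m)) : β = 1 := by
  subst hm
  set cc := P h ((2 : ℤ) ^ m) ((2 : ℤ) ^ m)
  set ca := P h ((2 : ℤ) ^ m) 0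
  set cb := P h 0 ((2 : ℤ) ^ m)
  have hnd : ¬ (2 : ℤ) ^ (m + 1) ∣ 2 ^ m := fun hd => by
    have := Int.le_of_dvd (by positivity) hd
    have : (0 : ℤ) < 2 ^ m := by positivity
    rw [pow_succ] at *
    omega
  have hsq : ∀ v ∈ [ca, cb], v * v = 1 ∧ v ≠ 1 ∧ v ≠ cc := by
    intro v hv
    simp only [List.mem_cons, List.not_mem_nil, or_false] at hv
    rcases hv with rfl | rfl <;>
      simp only [ca, cb, cc, P_mul h, P_eq_one_iff h, ne_eq, P_eq_iff h]
    · exact ⟨⟨⟨1, by ring⟩, by simp⟩, fun e => hnd e.1, fun e => hnd (by simpa using e.2.neg_right)⟩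
    · exact ⟨⟨by simp, ⟨1, by ring⟩⟩, fun e => hnd e.2, fun e => hnd (by simpa using e.1.neg_right)⟩
  have hpair : ∀ v ∈ [ca, cb], β v = ca ∨ β v = cb := fun v hv => by
    obtain ⟨h1, h2, h3⟩ := hsq v hv
    exact (invol_cases h rfl (v := β v) (by rw [← map_mul, h1, map_one])
      (fun e => h2 (β.map_eq_one_iff.1 e))).resolve_left (fun e => h3 (β.injective (e.trans hfix.symm)))
  have hne : ca ≠ cb := fun e => hnd (by simpa using ((P_eq_iff h _ _ _ _).1 e).1)
  have hodd2 : Odd (orderOf (β ^ 2)) := hβ.of_dvd_nat (orderOf_pow_dvd 2)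
  have hsqfix : ∀ v ∈ [ca, cb], (β ^ 2) v = v := by
    have hswap : β ca = cb → β cb = ca := fun ha =>
      (hpair cb (by simp)).resolve_right fun hb => hne (β.injective (ha.trans hb.symm))
    have hstay : β ca = ca → β cb = cb := fun ha =>
      (hpair cb (by simp)).resolve_left fun hb => hne (β.injective (ha.trans hb.symm))
    intro v hv
    simp only [List.mem_cons, List.not_mem_nil, or_false] at hv
    rw [sq, MulAut.mul_apply]
    rcases hpair ca (by simp) with ha | ha <;> rcases hv with rfl | rfl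
    · rw [ha, ha]
    · rw [hstay ha, hstay ha]
    · rw [ha, hswap ha]
    · rw [hswap ha, ha]
  have hΩ : ∀ v : h.base 1, v * v = 1 → (β ^ 2) v = v := fun v hv => by
    by_cases hv1 : v = 1
    · rw [hv1, map_one]
    rcases invol_cases h rfl hv hv1 with rfl | rfl | rfl
    · rw [sq, MulAut.mul_apply, hfix, hfix]
    · exact hsqfix _ (by simp [ca, cb])
    · exact hsqfix _ (by simp [ca, cb])
  let T : ℕ → Subgroup (h.base 1) := fun i =>
    { carrier := {c | c ^ 2 ^ i = 1}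
      mul_mem' := fun {a b} ha hb => by
        show (a * b) ^ _ = 1
        rw [(show Commute a b from base_comm h a b).mul_pow, show a ^ _ = 1 from ha,
          show b ^ _ = 1 from hb, one_mul]
      one_mem' := one_pow _
      inv_mem' := fun {a} ha => by
        show a⁻¹ ^ _ = 1
        rw [inv_pow, show a ^ _ = 1 from ha, inv_one] }
  have hall : β ^ 2 = 1 := by
    refine MulEquiv.ext fun a => ?_
    refine eq_self_of_series (isPGroup_base h) (Nat.coprime_two_right.2 hodd2)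
      (T := T) (m := m + 1) ?_ ?_ a ?_
    · exact eq_bot_iff.2 fun c hc => Subgroup.mem_bot.2 (by simpa [T] using hc)
    · intro i _ c hc
      show (c⁻¹ * (β ^ 2) c) ^ 2 ^ i = 1
      rw [(show Commute c⁻¹ ((β ^ 2) c) from base_comm h _ _).mul_pow, inv_pow, ← map_pow,
        hΩ _ (by rw [← pow_add, ← two_mul, ← pow_succ']; exact hc), inv_mul_cancel]
    · obtain ⟨i, j, rfl⟩ := exists_eq_P h a
      show P h i j ^ 2 ^ (m + 1) = 1
      exact Subtype.ext (by simp only [SubgroupClass.coe_pow, P]; exact h.pr_pow_eq_one i j)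
  by_contra hb
  exact Quartet.sq_ne_one hβ hb hall

theorem z_conj_mem (a : X) (ha : a ∈ h.base 1) : z * a * z⁻¹ ∈ h.base 1 := by
  obtain ⟨i, j, rfl⟩ := h.mem_base_one ha
  rw [h.z_mul_pr, mul_inv_cancel_right]
  exact h.pr_mem_base_one j i

/-- Conjugation by `z`. -/
def sigma : MulAut (h.base 1) where
  toFun a := ⟨z * a * z⁻¹, z_conj_mem h a a.2⟩
  invFun a := ⟨z * a * z⁻¹, z_conj_mem h a a.2⟩
  left_inv a := Subtype.ext (by
    show z * (z * a * z⁻¹) * z⁻¹ = a
    rw [h.z_inv, show z * (z * a * z) * z = z * z * a * (z * z) by group, h.z_mul_self, one_mul, mul_one])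
  right_inv a := Subtype.ext (by
    show z * (z * a * z⁻¹) * z⁻¹ = a
    rw [h.z_inv, show z * (z * a * z) * z = z * z * a * (z * z) by group, h.z_mul_self, one_mul, mul_one])
  map_mul' a b := Subtype.ext (by
    show z * (a * b) * z⁻¹ = z * a * z⁻¹ * (z * b * z⁻¹)
    group)

theorem sigma_P (i j : ℤ) : sigma h (P h i j) = P h j i :=
  Subtype.ext (show z * pr x y i j * z⁻¹ = pr x y j i by rw [h.z_mul_pr, mul_inv_cancel_right])

/-- What is known about a group of automorphisms with Sylow 2-subgroup generated by `sigma`. -/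
structure Good (H : Subgroup (MulAut (h.base 1))) : Prop where
  sigma_mem : sigma h ∈ H
  kernel : ∀ γ ∈ H, (∀ v : h.base 1, v * v = 1 → γ v = v) → γ = 1

/-- The facts about an automorphism `t` of odd order in a good group. -/
theorem good_facts {H : Subgroup (MulAut (h.base 1))} (hH : Good h H) {t : MulAut (h.base 1)}
    (htH : t ∈ H) (ht : Odd (orderOf t)) (hne : t ≠ 1) {m : ℕ} (hm : n = m + 1) :
    t ^ 3 = 1 ∧ sigma h * t * sigma h = t ^ 2 ∧
      (∀ a, a * t a * t (t a) = 1) ∧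
      (∀ β ∈ H, ∃ k : ℕ, β = t ^ k ∨ β = t ^ k * sigma h) ∧
      t (P h ((2 : ℤ) ^ m) ((2 : ℤ) ^ m)) ≠ P h ((2 : ℤ) ^ m) ((2 : ℤ) ^ m) ∧
      sigma h (t (P h ((2 : ℤ) ^ m) ((2 : ℤ) ^ m))) = t (t (P h ((2 : ℤ) ^ m) ((2 : ℤ) ^ m))) := by
  subst hm
  set cc := P h ((2 : ℤ) ^ m) ((2 : ℤ) ^ m) with hcc
  set σ := sigma h
  have hσcc : σ cc = cc := sigma_P h _ _
  have hnd : ¬ (2 : ℤ) ^ (m + 1) ∣ 2 ^ m := fun hd => by
    have := Int.le_of_dvd (by positivity) hd
    have : (0 : ℤ) < 2 ^ m := by positivity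
    rw [pow_succ] at *
    omega
  have hcc1 : cc * cc = 1 ∧ cc ≠ 1 := by
    simp only [hcc, P_mul h, P_eq_one_iff h, ne_eq]
    exact ⟨⟨⟨1, by ring⟩, ⟨1, by ring⟩⟩, fun e => hnd e.1⟩
  set p1 := t cc with hp1def
  set p2 := t p1 with hp2def
  have hp1 : p1 ≠ cc := fun e => hne (eq_one_of_fix h rfl t ht e)
  have hp2 : p2 ≠ cc := fun e => Quartet.sq_ne_one ht hne
    (eq_one_of_fix h rfl _ (ht.of_dvd_nat (orderOf_pow_dvd 2)) (by rw [sq, MulAut.mul_apply]; exact e))
  have hp12 : p2 ≠ p1 := fun e => hp1 (t.injective e)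
  have hsq : p1 * p1 = 1 ∧ p1 ≠ 1 ∧ p2 * p2 = 1 ∧ p2 ≠ 1 := by
    have a1 : p1 * p1 = 1 := by rw [hp1def, ← map_mul, hcc1.1, map_one]
    have a2 : p1 ≠ 1 := fun e => hcc1.2 (t.map_eq_one_iff.1 e)
    exact ⟨a1, a2, by rw [hp2def, ← map_mul, a1, map_one], fun e => a2 (t.map_eq_one_iff.1 e)⟩
  have hcases : ∀ v, v * v = 1 → v ≠ 1 → v = cc ∨ v = p1 ∨ v = p2 := by
    intro v hv hv1
    have hca : ∀ w, w * w = 1 → w ≠ 1 → w ≠ cc →
        w = P h ((2 : ℤ) ^ m) 0 ∨ w = P h 0 ((2 : ℤ) ^ m) := fun w a b c =>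
      (invol_cases h rfl a b).resolve_left c
    rcases invol_cases h rfl hv hv1 with e | e | e
    · exact Or.inl e
    all_goals
      rcases hca p1 hsq.1 hsq.2.1 hp1 with e1 | e1 <;>
        rcases hca p2 hsq.2.2.1 hsq.2.2.2 hp2 with e2 | e2 <;>
        first
        | exact absurd (e2.trans e1.symm) hp12
        | exact Or.inr (Or.inl (e.trans e1.symm))
        | exact Or.inr (Or.inr (e.trans e2.symm))
  have hp3 : t p2 = cc := by
    rcases hcases (t p2) (by rw [← map_mul, hsq.2.2.1, map_one])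
      (fun e => hsq.2.2.2 (t.map_eq_one_iff.1 e)) with e | e | e
    · exact e
    · exact absurd (t.injective e) hp2
    · exact absurd (t.injective e) hp12
  have hσσ : ∀ a, σ (σ a) = a := fun a => by
    obtain ⟨i, j, rfl⟩ := exists_eq_P h a
    rw [sigma_P h, sigma_P h]
  have hσ1 : σ p1 = p2 := by
    rcases hcases (σ p1) (by rw [← map_mul, hsq.1, map_one])
      (fun e => hsq.2.1 (σ.map_eq_one_iff.1 e)) with e | e | e
    · exact absurd (σ.injective (e.trans hσcc.symm)) hp1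
    · exfalso
      obtain ⟨i, j, hij⟩ := exists_eq_P h p1
      rw [hij, sigma_P h, P_eq_iff h] at e
      rcases (invol_cases h rfl hsq.1 hsq.2.1).resolve_left hp1 with e1 | e1 <;>
        rw [hij, P_eq_iff h] at e1
      · exact hnd (by
          have := dvd_sub (dvd_add e.2 e1.2) e1.1
          rwa [show i - j + (j - 0) - (i - 2 ^ m) = (2 : ℤ) ^ m by ring] at this)
      · exact hnd (by
          have := dvd_sub (dvd_add e.1 e1.1) e1.2
          rwa [show j - i + (i - 0) - (j - 2 ^ m) = (2 : ℤ) ^ m by ring] at this)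
    · exact e
  have hσ2 : σ p2 = p1 := by rw [← hσ1, hσσ]
  have hall : ∀ γ ∈ H, γ cc = cc → γ p1 = p1 → γ p2 = p2 → γ = 1 := fun γ hγ a b c =>
    hH.kernel γ hγ fun v hv => by
      by_cases hv1 : v = 1
      · rw [hv1, map_one]
      rcases hcases v hv hv1 with rfl | rfl | rfl
      exacts [a, b, c]
  have ht3 : t ^ 3 = 1 := hall _ (H.pow_mem htH 3)
    (by simp only [pow_succ, pow_zero, one_mul, MulAut.mul_apply]; exact hp3)
    (by simp only [pow_succ, pow_zero, one_mul, MulAut.mul_apply, ← hp2def, hp3]; rfl)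
    (by simp only [pow_succ, pow_zero, one_mul, MulAut.mul_apply, hp3]; rfl)
  have hrel : σ * t * σ = t ^ 2 := by
    refine inv_mul_eq_one.1 (hall ((σ * t * σ)⁻¹ * t ^ 2)
      (H.mul_mem (H.inv_mem (H.mul_mem (H.mul_mem hH.sigma_mem htH) hH.sigma_mem)) (H.pow_mem htH 2))
      ?_ ?_ ?_) <;>
      rw [MulAut.mul_apply, MulAut.inv_apply, MulEquiv.symm_apply_eq] <;>
      simp only [sq, MulAut.mul_apply]
    · rw [hσcc, ← hp1def, hσ1]
    · rw [hσ1, ← hp2def, hp3, hσcc]
    · rw [hσ2, hp3, ← hp1def, ← hp2def, hσ2]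
  refine ⟨ht3, hrel, fun a => ?_, fun β hβ => ?_, hp1, hσ1⟩
  · -- a fixed point of `t` is trivial
    have hfix : ∀ b, t b = b → b = 1 := by
      intro b hb
      by_contra hb1
      obtain ⟨k, hk⟩ := IsPGroup.iff_orderOf.1 (isPGroup_base h) b
      rcases k with _ | k
      · exact hb1 (orderOf_eq_one_iff.1 (by simpa using hk))
      set v := b ^ 2 ^ k with hv
      have hvv : v * v = 1 := by
        rw [hv, ← pow_add, ← two_mul, ← pow_succ', ← hk, pow_orderOf_eq_one]
      have hv1 : v ≠ 1 := pow_ne_one_of_lt_orderOf (by positivity)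
        (hk ▸ Nat.pow_lt_pow_right one_lt_two (by omega))
      have htv : t v = v := by rw [hv, map_pow, hb]
      rcases hcases v hvv hv1 with e | e | e <;> rw [e] at htv
      · exact hp1 htv
      · exact hp12 htv
      · exact hp2 (htv.symm.trans hp3)
    refine hfix _ ?_
    have e3 : t (t (t a)) = a := by
      have := DFunLike.congr_fun ht3 a
      simpa [pow_succ, MulAut.mul_apply] using this
    rw [map_mul, map_mul, e3, base_comm h _ a, mul_assoc]
  · obtain ⟨k, hk⟩ : ∃ k : ℕ, β cc = (t ^ k) cc := by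
      rcases hcases (β cc) (by rw [← map_mul, hcc1.1, map_one])
        (fun e => hcc1.2 (β.map_eq_one_iff.1 e)) with e | e | e
      · exact ⟨0, by simpa using e⟩
      · exact ⟨1, by simpa using e⟩
      · exact ⟨2, by rw [sq, MulAut.mul_apply]; exact e⟩
    set γ := (t ^ k)⁻¹ * β with hγ
    have hγH : γ ∈ H := H.mul_mem (H.inv_mem (H.pow_mem htH k)) hβ
    have hγcc : γ cc = cc := by rw [hγ, MulAut.mul_apply, hk, MulAut.inv_apply_self]
    have hβeq : β = t ^ k * γ := by rw [hγ, mul_inv_cancel_left]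
    refine ⟨k, ?_⟩
    have himg : ∀ p, p * p = 1 → p ≠ 1 → p ≠ cc → γ p = p1 ∨ γ p = p2 := fun p a b c =>
      (hcases (γ p) (by rw [← map_mul, a, map_one]) (fun e => b (γ.map_eq_one_iff.1 e))).resolve_left
        (fun e => c (γ.injective (e.trans hγcc.symm)))
    rcases himg p1 hsq.1 hsq.2.1 hp1 with e | e
    · refine Or.inl ?_
      rw [hβeq, hall γ hγH hγcc e ((himg p2 hsq.2.2.1 hsq.2.2.2 hp2).resolve_left
        (fun e' => hp12 (γ.injective (e'.trans e.symm)))), mul_one]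
    · refine Or.inr ?_
      have e' : γ p2 = p1 := (himg p2 hsq.2.2.1 hsq.2.2.2 hp2).resolve_right
        (fun e' => hp12 (γ.injective (e'.trans e.symm)))
      have hγσ : σ * γ = 1 := hall _ (H.mul_mem hH.sigma_mem hγH)
        (by rw [MulAut.mul_apply, hγcc, hσcc]) (by rw [MulAut.mul_apply, e, hσ2])
        (by rw [MulAut.mul_apply, e', hσ1])
      have hσinv : σ * σ = 1 := MulEquiv.ext hσσ
      rw [hβeq, show γ = σ from mul_left_cancel (hγσ.trans hσinv.symm)]

/-- Generators adapted to an automorphism of odd order. -/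
theorem exists_adapted {H : Subgroup (MulAut (h.base 1))} (hH : Good h H) {t : MulAut (h.base 1)}
    (htH : t ∈ H) (ht : Odd (orderOf t)) (hne : t ≠ 1) :
    ∃ X' Y' : h.base 1, WRGen (X' : X) (Y' : X) z n ∧ t X' = Y' * X'⁻¹ ∧ t Y' = X'⁻¹ := by
  obtain ⟨m, rfl⟩ : ∃ m, n = m + 1 := ⟨n - 1, by have := h.two_le; omega⟩
  obtain ⟨ht3, hrel, hsum, -, hp1, hσ1⟩ := good_facts h hH htH ht hne rfl
  set σ := sigma h
  set cc := P h ((2 : ℤ) ^ m) ((2 : ℤ) ^ m) with hcc
  set a := P h 1 1 with ha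
  have hσa : σ a = a := sigma_P h 1 1
  have haq : a ^ ((2 : ℤ) ^ m) = cc := by rw [ha, P_zpow h, one_mul]
  have ht3' : ∀ b, t (t (t b)) = b := fun b => by
    have := DFunLike.congr_fun ht3 b
    simpa [pow_succ, MulAut.mul_apply] using this
  set X' := a * (t a)⁻¹ with hX
  set Y' := σ X' with hY
  have hrel' : σ (t a) = t (t a) := by
    have := DFunLike.congr_fun hrel a
    simpa [MulAut.mul_apply, sq, hσa] using this
  have htY : t Y' = X'⁻¹ := by
    rw [hY, hX, map_mul, map_inv, hσa, hrel', map_mul, map_inv, ht3', mul_inv_rev, inv_inv]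
  have htX : t X' = Y' * X'⁻¹ := by
    have e := hsum Y'
    rw [htY, map_inv] at e
    exact (eq_of_mul_inv_eq_one e).symm
  refine ⟨X', Y', ?_, htX, htY⟩
  have hpcc : cc * cc = 1 := by
    rw [hcc, P_mul h, P_eq_one_iff h]; exact ⟨⟨1, by ring⟩, ⟨1, by ring⟩⟩
  have hXq : X' ^ ((2 : ℤ) ^ m) = t (t cc) := by
    have e := hsum cc
    rw [hX, Commute.mul_zpow (base_comm h _ _), haq, inv_zpow, ← map_zpow, haq]
    have h1 : (t cc)⁻¹ = t cc := inv_eq_of_mul_eq_one_right (by rw [← map_mul, hpcc, map_one])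
    rw [h1, eq_inv_of_mul_eq_one_left e]
    exact inv_eq_of_mul_eq_one_right (by rw [← map_mul, ← map_mul, hpcc, map_one, map_one])
  have hYq : Y' ^ ((2 : ℤ) ^ m) = t cc := by
    rw [hY, ← map_zpow, hXq, ← hσ1]
    exact Subtype.ext (show z * (z * (t cc : X) * z⁻¹) * z⁻¹ = _ by
      rw [h.z_inv, show z * (z * (t cc : X) * z) * z = z * z * (t cc : X) * (z * z) by group,
        h.z_mul_self, one_mul, mul_one])
  have hcc1 : cc ≠ 1 := by
    rw [hcc, ne_eq, P_eq_one_iff h]
    rintro ⟨hd, -⟩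
    have := Int.le_of_dvd (by positivity) hd
    have : (0 : ℤ) < 2 ^ m := by positivity
    rw [pow_succ] at *
    omega
  have hb1 : ∀ b : h.base 1, b ^ ((2 : ℤ) ^ (m + 1)) = 1 := fun b => by
    obtain ⟨i, j, rfl⟩ := exists_eq_P h b
    rw [P_zpow h, P_eq_one_iff h]
    exact ⟨dvd_mul_left _ _, dvd_mul_left _ _⟩
  have hord : ∀ b : h.base 1, b ^ ((2 : ℤ) ^ m) ≠ 1 → orderOf b = 2 ^ (m + 1) := fun b hb => by
    refine orderOf_eq_prime_pow (p := 2) (fun e => hb ?_) ?_
    · rw [← e, ← zpow_natCast]; norm_num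
    · rw [← hb1 b, ← zpow_natCast]; norm_num
  have hXne : X' ^ ((2 : ℤ) ^ m) ≠ 1 := fun e => hcc1
    (t.map_eq_one_iff.1 (t.map_eq_one_iff.1 (hXq.symm.trans e)))
  have hYne : Y' ^ ((2 : ℤ) ^ m) ≠ 1 := fun e => hcc1 (t.map_eq_one_iff.1 (hYq.symm.trans e))
  refine
    { two_le := h.two_le
      card := h.card
      ordX := (Subgroup.orderOf_coe X').trans (hord X' hXne)
      comm := h.commute_base X'.2 Y'.2
      disj := ?_
      ordZ := h.ordZ
      conj := rfl }
  have hmem : ∀ (b : h.base 1), orderOf b = 2 ^ (m + 1) → ∀ i : ℤ, b ^ i * b ^ i = 1 → b ^ i ≠ 1 →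
      b ^ i = b ^ ((2 : ℤ) ^ m) := by
    intro b hb i e1 e2
    rw [← zpow_add, ← orderOf_dvd_iff_zpow_eq_one, hb] at e1
    push_cast at e1
    obtain ⟨d, hd⟩ := e1
    have hi : i = 2 ^ m * d :=
      mul_left_cancel₀ (show (2 : ℤ) ≠ 0 by norm_num) (by linear_combination hd)
    rcases Int.even_or_odd d with ⟨c, rfl⟩ | ⟨c, rfl⟩
    · exfalso; apply e2
      rw [hi, show (2 : ℤ) ^ m * (c + c) = 2 ^ (m + 1) * c by ring, zpow_mul, hb1, one_zpow]
    · rw [hi, show (2 : ℤ) ^ m * (2 * c + 1) = 2 ^ (m + 1) * c + 2 ^ m by ring, zpow_add, zpow_mul,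
        hb1, one_zpow, one_mul]
  refine eq_bot_iff.2 fun g hg => Subgroup.mem_bot.2 ?_
  by_contra hg1
  obtain ⟨k, hk⟩ := IsPGroup.iff_orderOf.1 h.isPGroup g
  rcases k with _ | k
  · exact hg1 (orderOf_eq_one_iff.1 (by simpa using hk))
  set v := g ^ 2 ^ k with hv
  have hvv : v * v = 1 := by rw [hv, ← pow_add, ← two_mul, ← pow_succ', ← hk, pow_orderOf_eq_one]
  have hv1 : v ≠ 1 := pow_ne_one_of_lt_orderOf (by positivity)
    (hk ▸ Nat.pow_lt_pow_right one_lt_two (by omega))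
  obtain ⟨i, hi⟩ := Subgroup.mem_zpowers_iff.1 (Subgroup.pow_mem _ hg.1 (2 ^ k))
  obtain ⟨j, hj⟩ := Subgroup.mem_zpowers_iff.1 (Subgroup.pow_mem _ hg.2 (2 ^ k))
  rw [← hv] at hi hj
  have ei : ((X' ^ i : h.base 1) : X) = v := by rw [SubgroupClass.coe_zpow]; exact hi
  have ej : ((Y' ^ j : h.base 1) : X) = v := by rw [SubgroupClass.coe_zpow]; exact hj
  have he : X' ^ i = Y' ^ j := Subtype.ext (ei.trans ej.symm)
  have e1 : X' ^ i * X' ^ i = 1 := Subtype.ext (by rw [Subgroup.coe_mul, ei]; exact hvv)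
  have e2 : X' ^ i ≠ 1 := fun e => hv1 (by rw [← ei, e]; rfl)
  have r1 := hmem X' (hord X' hXne) i e1 e2
  have r2 := hmem Y' (hord Y' hYne) j (he ▸ e1) (he ▸ e2)
  have hh : t (t cc) = t cc := by rw [← hXq, ← r1, he, r2, hYq]
  exact hp1 (t.injective hh)

end Base

/-! ### Fusion systems -/

/-- The value group of the transfer-like homomorphism on the homocyclic subgroup. -/
abbrev ZA (n : ℕ) := Multiplicative (ZMod (2 ^ (n - 1)))

/-- The group of order 2. -/
abbrev Z2 := Multiplicative (ZMod 2)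

variable {Ω : Type*} [Group Ω] {S : Subgroup Ω} [Finite S] {x y z : S} {n : ℕ}

theorem exists_thetaA (h : WRGen x y z n) :
    ∃ θ : S →* ZA n, θ x = .ofAdd 1 ∧ θ y = .ofAdd 1 ∧ θ z = 1 := by
  refine h.exists_hom _ _ _ ?_ rfl (one_mul 1) (by simp)
  rw [← ofAdd_zsmul, zsmul_one, ← ofAdd_zero]
  congr 1
  rw [ZMod.intCast_zmod_eq_zero_iff_dvd]
  push_cast
  exact pow_dvd_pow 2 (Nat.sub_le n 1)

theorem exists_thetaV (h : WRGen x y z n) :
    ∃ θ : S →* Z2, θ x = 1 ∧ θ y = 1 ∧ θ z = .ofAdd 1 := by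
  refine h.exists_hom _ _ _ (one_zpow _) rfl (by decide) (by simp)

variable (h : WRGen x y z n) {F F' : FusionSystem S}

/-- `x ^ i y ^ j z ^ e ↦ i + j`. -/
noncomputable def thetaA : S →* ZA n := (exists_thetaA h).choose

/-- `x ^ i y ^ j z ^ e ↦ e`. -/
noncomputable def thetaV : S →* Z2 := (exists_thetaV h).choose

/-- The homocyclic subgroup in `Ω`. -/
def Asub : Subgroup Ω := (h.base 1).map S.subtype

/-- The central product subgroups in `Ω`. -/
def Vsub (t : ℤ) : Subgroup Ω := (h.diag (2 ^ (n - 1)) (2 * t)).map S.subtype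

/-- The identification of the homocyclic subgroup. -/
noncomputable def eA : h.base 1 ≃* Asub h :=
  (h.base 1).equivMapOfInjective S.subtype S.subtype_injective

/-- The identification of a central product subgroup. -/
noncomputable def eV (t : ℤ) : h.diag (2 ^ (n - 1)) (2 * t) ≃* Vsub h t :=
  (h.diag (2 ^ (n - 1)) (2 * t)).equivMapOfInjective S.subtype S.subtype_injective

/-- The canonical automorphism belongs to the system if any of odd order does. -/
def Canon (F : FusionSystem S) : Prop :=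
  Active F (Asub h) → ∃ α ∈ F.autGroup (Asub h), ∀ v : Asub h,
    ((v : Ω) = (x : Ω) → (α v : Ω) = ((y * x⁻¹ : S) : Ω)) ∧
      ((v : Ω) = (y : Ω) → (α v : Ω) = ((x⁻¹ : S) : Ω))

include h

theorem thetaA_pr (i j : ℤ) : thetaA h (pr x y i j) = .ofAdd (((i + j : ℤ)) : ZMod (2 ^ (n - 1))) := by
  rw [thetaA, pr, map_mul, map_zpow, map_zpow, (exists_thetaA h).choose_spec.1,
    (exists_thetaA h).choose_spec.2.1, ← zpow_add, ← ofAdd_zsmul, zsmul_one]

theorem thetaA_prz (i j : ℤ) :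
    thetaA h (pr x y i j * z) = .ofAdd (((i + j : ℤ)) : ZMod (2 ^ (n - 1))) := by
  rw [map_mul, thetaA_pr, show thetaA h z = 1 from (exists_thetaA h).choose_spec.2.2, mul_one]

theorem thetaV_pr (i j : ℤ) : thetaV h (pr x y i j) = 1 := by
  rw [thetaV, pr, map_mul, map_zpow, map_zpow, (exists_thetaV h).choose_spec.1,
    (exists_thetaV h).choose_spec.2.1, one_zpow, one_zpow, one_mul]

theorem thetaV_prz (i j : ℤ) : thetaV h (pr x y i j * z) = .ofAdd 1 := by
  rw [map_mul, thetaV_pr, show thetaV h z = .ofAdd 1 from (exists_thetaV h).choose_spec.2.2, one_mul]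

theorem Asub_le : Asub h ≤ S := Subgroup.map_subtype_le _

theorem Vsub_le (t : ℤ) : Vsub h t ≤ S := Subgroup.map_subtype_le _

omit h in
theorem congr_conj {A B : Type*} [Group A] [Group B] (e : A ≃* B) (g : A) :
    MulAut.congr e (MulAut.conj g) = MulAut.conj (e g) := MulEquiv.ext fun b => by
  show e (g * e.symm b * g⁻¹) = e g * b * (e g)⁻¹
  rw [map_mul, map_mul, map_inv, e.apply_symm_apply]

theorem eA_coe (b : h.base 1) : ((eA h b : Asub h) : Ω) = ((b : S) : Ω) := rfl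

omit h in
theorem mem_pull {A B : Type*} [Group A] [Group B] {e : A ≃* B} {H : Subgroup (MulAut B)}
    {a : MulAut A} : a ∈ H.comap (MulAut.congr e).toMonoidHom ↔ MulAut.congr e a ∈ H := Iff.rfl

theorem good_pullback (hS : IsPGroup 2 S) (hF : F.IsSaturated 2) :
    Good h ((F.autGroup (Asub h)).comap (MulAut.congr (eA h)).toMonoidHom) := by
  have : Fact (Nat.Prime 2) := ⟨Nat.prime_two⟩
  have hzN : ∀ v : Asub h, ((MulAut.congr (eA h) (sigma h) v : Asub h) : Ω) =
      (z : Ω) * v * (z : Ω)⁻¹ := fun v => by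
    obtain ⟨a, rfl⟩ := (eA h).surjective v
    show ((eA h (sigma h ((eA h).symm (eA h a))) : Asub h) : Ω) = _
    rw [MulEquiv.symm_apply_apply]
    rfl
  refine ⟨(mem_autGroup_iff (Asub_le h)).2 (mem_of_conj (Asub_le h) z.2 hzN), fun γ hγ hfix => ?_⟩
  have := finite_mulAut (Ω := Ω) (Asub_le h)
  set H := F.autGroup (Asub h)
  have hn : F.IsFullyNormalized (Asub h) := by
    refine ⟨Asub_le h, fun Q _ => ?_⟩
    have hSn : normalizerIn S (Asub h) = S := by
      refine le_antisymm (normalizerIn_le _ _) fun g hg => ⟨hg, Subgroup.mem_normalizer_iff.2 ?_⟩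
      have hN : (h.base 1).Normal := ⟨fun a ha g => by
        obtain ⟨i, j, rfl⟩ := h.mem_base_one ha
        obtain ⟨k, l, rfl | rfl⟩ := h.exists_form g
        · rw [h.conj_pr_by_pr]; exact h.pr_mem_base_one i j
        · rw [h.conj_pr_by_prz]; exact h.pr_mem_base_one j i⟩
      intro v
      constructor
      · rintro ⟨a, ha, rfl⟩
        exact ⟨_, hN.conj_mem a ha ⟨g, hg⟩, rfl⟩
      · rintro ⟨a, ha, he⟩
        refine ⟨_, hN.conj_mem a ha (⟨g, hg⟩⁻¹), ?_⟩
        show g⁻¹ * (a : Ω) * g⁻¹⁻¹ = v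
        rw [show (a : Ω) = g * v * g⁻¹ from he]
        group
    rw [hSn]
    exact card_le_of_le le_rfl (normalizerIn_le _ _)
  obtain ⟨-, Pl, hP⟩ := isFullyAutomized_of_fullyNormalized hS hF hn
  set g : H := ⟨MulAut.congr (eA h) γ, hγ⟩
  have hodd : ∀ j : ℕ, Odd (orderOf (γ ^ j)) → γ ^ j = 1 := fun j hj => by
    obtain ⟨m, hm⟩ : ∃ m, n = m + 1 := ⟨n - 1, by have := h.two_le; omega⟩
    refine eq_one_of_fix h hm _ hj ?_
    refine pow_apply_fixed γ (hfix _ ?_) j
    rw [P_mul h, P_eq_one_iff h, hm]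
    exact ⟨⟨1, by ring⟩, ⟨1, by ring⟩⟩
  have hγfin : 0 < orderOf γ := by
    have : Finite (MulAut (h.base 1)) :=
      Finite.of_injective (fun b : MulAut (h.base 1) => (b : _ → _)) DFunLike.coe_injective
    exact orderOf_pos γ
  have hpow : γ ^ 2 ^ (orderOf γ).factorization 2 = 1 := by
    refine hodd _ ?_
    rw [orderOf_pow_of_dvd (by positivity) (Nat.ordProj_dvd _ _), ← Nat.not_even_iff_odd,
      even_iff_two_dvd]
    exact Nat.not_dvd_ordCompl Nat.prime_two hγfin.ne'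
  have hg : IsPGroup 2 (Subgroup.zpowers g) := by
    have hdvd : orderOf g ∣ 2 ^ (orderOf γ).factorization 2 := by
      refine orderOf_dvd_of_pow_eq_one (Subtype.ext ?_)
      rw [SubmonoidClass.coe_pow, OneMemClass.coe_one, ← map_pow, hpow, map_one]
    obtain ⟨k, -, hk⟩ := (Nat.dvd_prime_pow Nat.prime_two).1 hdvd
    exact IsPGroup.of_card (by rw [Nat.card_zpowers, hk])
  obtain ⟨Q, hQ⟩ := hg.exists_le_sylow
  obtain ⟨w, hw⟩ := MulAction.exists_smul_eq H Pl Q
  have hgQ := hQ (Subgroup.mem_zpowers g)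
  rw [← hw, Sylow.coe_subgroup_smul, Subgroup.mem_smul_pointwise_iff_exists] at hgQ
  obtain ⟨p, hp, hpg⟩ := hgQ
  rw [hP] at hp
  obtain ⟨s, hs, hsa₀⟩ := mem_autInducedBy_iff.1 hp
  have hsa : ∀ v : Asub h, (((p : MulAut (Asub h)) v : Asub h) : Ω) = s * (v : Ω) * s⁻¹ := hsa₀
  -- the automorphism induced by `s` is the identity
  by_contra hne
  apply hne
  refine (MulAut.congr (eA h)).map_eq_one_iff.1 ?_
  show (g : MulAut (Asub h)) = 1
  rw [← hpg]
  suffices hp1 : (p : MulAut (Asub h)) = 1 by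
    simp only [MulAut.smul_def, MulAut.conj_apply, Subgroup.coe_mul, Subgroup.coe_inv, hp1, mul_one,
      mul_inv_cancel]
  obtain ⟨i, j, hij | hij⟩ := h.exists_form (⟨s, hs⟩ : S)
  · refine MulEquiv.ext fun v => Subtype.ext ?_
    obtain ⟨a, rfl⟩ := (eA h).surjective v
    rw [hsa, show s = ((pr x y i j : S) : Ω) from congrArg Subtype.val hij]
    obtain ⟨k, l, rfl⟩ := exists_eq_P h a
    exact congrArg Subtype.val (h.conj_pr_by_pr i j k l)
  · exfalso
    have hpσ : (p : MulAut (Asub h)) = MulAut.congr (eA h) (sigma h) := MulEquiv.ext fun v => Subtype.ext (by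
      rw [hzN, hsa, show s = ((pr x y i j * z : S) : Ω) from congrArg Subtype.val hij]
      obtain ⟨a, rfl⟩ := (eA h).surjective v
      obtain ⟨k, l, rfl⟩ := exists_eq_P h a
      exact (congrArg Subtype.val (h.conj_pr_by_prz i j k l)).trans
        (congrArg Subtype.val (show pr x y l k = z * pr x y k l * z⁻¹ by
          rw [h.z_mul_pr, mul_inv_cancel_right])))
    set W := (MulAut.congr (eA h)).symm (w : MulAut (Asub h)) with hWdef
    have hγeq : γ = W * sigma h * W⁻¹ := by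
      refine (MulAut.congr (eA h)).injective ?_
      rw [map_mul, map_mul, map_inv, hWdef, MulEquiv.apply_symm_apply, ← hpσ]
      show (g : MulAut (Asub h)) = _
      rw [← hpg]
      rfl
    obtain ⟨m, hm⟩ : ∃ m, n = m + 1 := ⟨n - 1, by have := h.two_le; omega⟩
    set v := P h ((2 : ℤ) ^ m) 0
    have hv : v * v = 1 := by rw [P_mul h, P_eq_one_iff h, hm]; exact ⟨⟨1, by ring⟩, by simp⟩
    have e := hfix (W v) (by rw [← map_mul, hv, map_one])
    rw [hγeq, MulAut.mul_apply, MulAut.mul_apply, MulAut.inv_apply_self] at e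
    have e2 := W.injective e
    rw [sigma_P h, P_eq_iff h, hm] at e2
    obtain ⟨d, hd⟩ := e2.1
    have h0 : (0 : ℤ) < 2 ^ m := by positivity
    have hd' : (-1 : ℤ) = 2 * d := mul_left_cancel₀ h0.ne' (by linear_combination hd)
    omega

theorem active_cases (_hS : IsPGroup 2 S) {R : Subgroup Ω} (hR : R ≤ S) (hc : F.IsCentric R)
    (hA : Active F R) : R = Asub h ∨ ∃ t : ℤ, R = Vsub h t := by
  obtain ⟨α, -, hodd, hne⟩ := hA
  let e := Subgroup.subgroupOfEquivOfLe hR
  rcases h.exists_eq_of_odd_aut (R.subgroupOf S) (fun g hg => isCentric_centralizerIn_le hc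
      (mem_centralizerIn.2 ⟨g.2, fun v hv => congrArg Subtype.val (hg ⟨v, hR hv⟩ hv)⟩))
    (MulAut.congr e.symm α) (by rwa [MulEquiv.orderOf_eq])
    (fun he => hne ((MulAut.congr e.symm).map_eq_one_iff.1 he)) with hq | ⟨t, hq⟩
  · exact Or.inl (by rw [Asub, ← hq, Subgroup.map_subgroupOf_eq_of_le hR])
  · exact Or.inr ⟨t, by rw [Vsub, ← hq, Subgroup.map_subgroupOf_eq_of_le hR]⟩

theorem map_Vsub (t t' : ℤ) :
    (Vsub h t).map (MulAut.conj ((pr x y (t' - t) 0 : S) : Ω)).toMonoidHom = Vsub h t' := by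
  rw [Vsub, Vsub, Subgroup.map_map,
    show (2 * t' : ℤ) = 2 * t + 2 * (t' - t - 0) by ring,
    ← h.map_diag (pow_dvd_pow 2 (Nat.sub_le n 1)) (2 * t) (t' - t) 0, Subgroup.map_map]
  rfl

theorem active_Vsub {t t' : ℤ} (hA : Active F (Vsub h t)) : Active F (Vsub h t') :=
  map_Vsub h t t' ▸ active_map_conj (Vsub_le h t) (SetLike.coe_mem _) hA

theorem activeV_iff (hS : IsPGroup 2 S) (hF : F.IsSaturated 2) :
    Active F (Vsub h 0) ↔ ¬ Stable F (thetaV h) := by
  constructor
  · rintro ⟨α, hα, hodd, hne⟩ hst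
    obtain ⟨C, u, w, f, hQ, hw, hC⟩ := h.exists_quartet 0
    let e := eV h 0
    have e1 := hQ.hom_eq_one ((thetaV h).comp (Subgroup.subtype _)) (fun c hc => by
        obtain ⟨d, hd⟩ := (hC c).1 hc
        show thetaV h (c : S) = 1
        rw [hd, thetaV_pr]) (α := MulAut.congr e.symm α)
      (by rwa [MulEquiv.orderOf_eq]) (fun he => hne ((MulAut.congr e.symm).map_eq_one_iff.1 he))
      (fun a => by
        have := hst.aut (Vsub_le h 0) hα (e a)
        refine Eq.trans ?_ this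
        show thetaV h ((e.symm (α (e a))) : S) = _
        congr 1
        refine Subtype.ext ?_
        show ((e (e.symm (α (e a))) : Vsub h 0) : Ω) = _
        rw [MulEquiv.apply_symm_apply]) w
    change thetaV h (w : S) = 1 at e1
    rw [hw, thetaV_prz] at e1
    exact absurd e1 (by decide)
  · intro hns
    by_contra hA
    refine hns (stable_of_odd hS hF _ fun R hR hc α hα hodd a => ?_)
    by_cases hne : α = 1
    · subst hne; rfl
    rcases active_cases h hS hR hc ⟨α, hα, hodd, hne⟩ with rfl | ⟨t, rfl⟩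
    · have key : ∀ b : Asub h, thetaV h ⟨b, hR b.2⟩ = 1 := by
        rintro ⟨_, g, hg, rfl⟩
        obtain ⟨i, j, rfl⟩ := h.mem_base_one hg
        exact thetaV_pr h i j
      rw [key, key]
    · exact absurd (active_Vsub h ⟨α, hα, hodd, hne⟩) hA

theorem activeA_iff (hS : IsPGroup 2 S) (hF : F.IsSaturated 2) :
    Active F (Asub h) ↔ ¬ Stable F (thetaA h) := by
  obtain ⟨m, hm⟩ : ∃ m, n = m + 1 := ⟨n - 1, by have := h.two_le; omega⟩
  constructor
  · rintro ⟨α, hα, hodd, hne⟩ hst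
    set t := (MulAut.congr (eA h)).symm α
    obtain ⟨-, -, hsum, -⟩ := good_facts h (good_pullback h hS hF) (t := t)
      (by rw [mem_pull, MulEquiv.apply_symm_apply]; assumption)
      (by rwa [MulEquiv.orderOf_eq]) (fun he => hne ((MulAut.congr (eA h)).symm.map_eq_one_iff.1 he)) hm
    have hinv : ∀ a : h.base 1, thetaA h (t a : S) = thetaA h (a : S) := fun a => by
      have := hst.aut (Asub_le h) hα (eA h a)
      refine Eq.trans ?_ this
      congr 1
      refine Subtype.ext ?_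
      show ((eA h ((eA h).symm (α (eA h a))) : Asub h) : Ω) = _
      rw [MulEquiv.apply_symm_apply]
    have e := congrArg (fun b : h.base 1 => thetaA h (b : S)) (hsum (P h 1 0))
    simp only [Subgroup.coe_mul, OneMemClass.coe_one, map_mul, map_one, hinv] at e
    rw [show ((P h 1 0 : h.base 1) : S) = pr x y 1 0 from rfl, thetaA_pr, ← ofAdd_add, ← ofAdd_add,
      ← ofAdd_zero, Multiplicative.ofAdd.injective.eq_iff, ← Int.cast_add, ← Int.cast_add,
      ZMod.intCast_zmod_eq_zero_iff_dvd] at e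
    have h2 : (2 : ℤ) ∣ 1 + 0 + (1 + 0) + (1 + 0) := dvd_trans (by
      have := h.two_le
      push_cast
      exact dvd_pow_self 2 (by omega)) e
    norm_num at h2
  · intro hns
    by_contra hA
    refine hns (stable_of_odd hS hF _ fun R hR hc α hα hodd a => ?_)
    by_cases hne : α = 1
    · subst hne; rfl
    rcases active_cases h hS hR hc ⟨α, hα, hodd, hne⟩ with rfl | ⟨t, rfl⟩
    · exact absurd ⟨α, hα, hodd, hne⟩ hA
    -- `θ` is a function of the square
    obtain ⟨C, u, w, f, hQ, -, hC⟩ := h.exists_quartet t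
    let e := eV h t
    set β := MulAut.congr e.symm α
    have hval : ∀ g : h.diag (2 ^ (n - 1)) (2 * t), ∃ d : ℤ,
        ((g * g : ↥(h.diag (2 ^ (n - 1)) (2 * t))) : S) = pr x y d d ∧
          thetaA h (g : S) = .ofAdd ((d : ℤ) : ZMod (2 ^ (n - 1))) := by
      intro g
      rw [Subgroup.coe_mul]
      have hk := pow_dvd_pow 2 (Nat.sub_le n 1)
      obtain ⟨i, j, hij | hij⟩ := h.exists_form (g : S)
      · obtain ⟨c, hc⟩ := (h.pr_mem_diag hk).1 (hij ▸ g.2)
        subst hm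
        simp only [Nat.add_sub_cancel] at *
        refine ⟨i + i, by rw [hij, h.pr_mul, h.pr_eq_iff]; exact ⟨⟨0, by ring⟩, ⟨-c, by
          push_cast at hc; linear_combination (-2) * hc⟩⟩, ?_⟩
        rw [hij, thetaA_pr h]
        congr 1
        rw [← sub_eq_zero, ← Int.cast_sub, ZMod.intCast_zmod_eq_zero_iff_dvd]
        refine ⟨-c, ?_⟩
        push_cast at hc ⊢
        linear_combination -hc
      · exact ⟨i + j, by rw [hij, h.prz_mul_prz, add_comm j i], by rw [hij, thetaA_prz h]⟩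
    have hb : ∀ g, thetaA h (β g : S) = thetaA h (g : S) := fun g => by
      obtain ⟨d, hd, hd'⟩ := hval g
      obtain ⟨d₂, hd₂, hd₂'⟩ := hval (β g)
      rw [← map_mul, hQ.fix β (by rwa [MulEquiv.orderOf_eq]) _ (hQ.sqC g), hd, h.pr_eq_iff] at hd₂
      rw [hd', hd₂']
      congr 1
      rw [← sub_eq_zero, ← Int.cast_sub, ZMod.intCast_zmod_eq_zero_iff_dvd]
      push_cast
      rw [show d₂ - d = -(d - d₂) by ring]
      exact ((pow_dvd_pow 2 (Nat.sub_le n 1)).trans hd₂.1).neg_right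
    obtain ⟨g, rfl⟩ := e.surjective a
    refine Eq.trans ?_ (hb g)
    congr 1
    refine Subtype.ext ?_
    show ((α (e g) : Vsub h t) : Ω) = ((e (e.symm (α (e g))) : Vsub h t) : Ω)
    rw [MulEquiv.apply_symm_apply]

theorem le_of_stable (hS : IsPGroup 2 S) (hF : F.IsSaturated 2) (hF' : F'.IsSaturated 2)
    (hc : Canon h F) (hc' : Canon h F') (hA : Stable F' (thetaA h) → Stable F (thetaA h))
    (hV : Stable F' (thetaV h) → Stable F (thetaV h)) : F ≤ F' := by
  refine le_of_odd hS hF F' fun R hR hcR α hα hodd => ?_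
  by_cases hne : α = 1
  · subst hne; exact (F'.autGroup R).one_mem
  obtain ⟨m, hm⟩ : ∃ m, n = m + 1 := ⟨n - 1, by have := h.two_le; omega⟩
  rcases active_cases h hS hR hcR ⟨α, hα, hodd, hne⟩ with rfl | ⟨t, rfl⟩
  · have hAF : Active F (Asub h) := ⟨α, hα, hodd, hne⟩
    have hAF' : Active F' (Asub h) :=
      (activeA_iff h hS hF').2 fun hs => (activeA_iff h hS hF).1 hAF (hA hs)
    obtain ⟨a, ha, hav⟩ := hc hAF
    obtain ⟨a', ha', hav'⟩ := hc' hAF'
    have hx : (x : Ω) ∈ Asub h := ⟨x, ⟨1, 0, by simp [pr], by simp⟩, rfl⟩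
    have hy : (y : Ω) ∈ Asub h := ⟨y, ⟨0, 1, by simp [pr], by simp⟩, rfl⟩
    have haa : a = a' := by
      refine MulEquiv.ext fun v => ?_
      obtain ⟨b, rfl⟩ := (eA h).surjective v
      obtain ⟨i, j, rfl⟩ := exists_eq_P h b
      rw [show eA h (P h i j) = ⟨x, hx⟩ ^ i * ⟨y, hy⟩ ^ j from Subtype.ext (by
        simp [P, pr, eA_coe h]), map_mul, map_mul, map_zpow, map_zpow, map_zpow, map_zpow]
      rw [show a ⟨x, hx⟩ = a' ⟨x, hx⟩ from
          Subtype.ext (((hav _).1 rfl).trans ((hav' _).1 rfl).symm),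
        show a ⟨y, hy⟩ = a' ⟨y, hy⟩ from
          Subtype.ext (((hav _).2 rfl).trans ((hav' _).2 rfl).symm)]
    subst haa
    have hG := good_pullback h hS hF
    set t := (MulAut.congr (eA h)).symm α
    have htH : t ∈ (F.autGroup (Asub h)).comap (MulAut.congr (eA h)).toMonoidHom := by
      rw [mem_pull, MulEquiv.apply_symm_apply]; assumption
    obtain ⟨-, -, -, hall, -⟩ := good_facts h hG htH (by rwa [MulEquiv.orderOf_eq])
      (fun he => hne ((MulAut.congr (eA h)).symm.map_eq_one_iff.1 he)) hm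
    set a₀ := (MulAut.congr (eA h)).symm a
    have ha0 : a₀ ∈ (F.autGroup (Asub h)).comap (MulAut.congr (eA h)).toMonoidHom := by
      rw [mem_pull, MulEquiv.apply_symm_apply]; assumption
    have hG' := good_pullback h hS hF'
    have ha0' : a₀ ∈ (F'.autGroup (Asub h)).comap (MulAut.congr (eA h)).toMonoidHom := by
      rw [mem_pull, MulEquiv.apply_symm_apply]; assumption
    -- `a₀` is `t` or `t²` up to `sigma`, so `t` is generated by `a₀` and `sigma`
    have ha1 : a₀ ≠ sigma h ∧ a₀ ≠ 1 := by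
      have e1 : ((a₀ (P h 0 1) : h.base 1) : S) = x⁻¹ := by
        refine Subtype.ext ?_
        show ((eA h ((eA h).symm (a (eA h (P h 0 1)))) : Asub h) : Ω) = _
        rw [MulEquiv.apply_symm_apply]
        exact (hav _).2 (by simp [P, pr, eA_coe h])
      have hxinv : x⁻¹ = pr x y (-1) 0 := by simp [pr]
      constructor <;> intro he <;> rw [he] at e1
      · rw [sigma_P h, show ((P h 1 0 : h.base 1) : S) = pr x y 1 0 from rfl, hxinv,
          h.pr_eq_iff] at e1
        have := Int.le_of_dvd (by norm_num) e1.1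
        have h4 : (4 : ℤ) ≤ 2 ^ n := le_trans (by norm_num) (pow_le_pow_right₀ (by norm_num) h.two_le)
        norm_num at this
        omega
      · rw [MulAut.one_apply, show ((P h 0 1 : h.base 1) : S) = pr x y 0 1 from rfl, hxinv,
          h.pr_eq_iff] at e1
        have := Int.le_of_dvd (by norm_num) (show (2 : ℤ) ^ n ∣ 1 by simpa using e1.2)
        have h4 : (4 : ℤ) ≤ 2 ^ n := le_trans (by norm_num) (pow_le_pow_right₀ (by norm_num) h.two_le)
        omega
    set H' := (F'.autGroup (Asub h)).comap (MulAut.congr (eA h)).toMonoidHom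
    obtain ⟨ht3, -, -, -⟩ := good_facts h hG htH (by rwa [MulEquiv.orderOf_eq])
      (fun he => hne ((MulAut.congr (eA h)).symm.map_eq_one_iff.1 he)) hm
    suffices htH' : t ∈ H' by
      have : MulAut.congr (eA h) t ∈ F'.autGroup (Asub h) := htH'
      rwa [MulEquiv.apply_symm_apply] at this
    obtain ⟨k, hk⟩ := hall a₀ ha0
    have ht4 : t = (t ^ k) ^ k ∨ t ^ k = 1 := by
      have : k % 3 = 0 ∨ k % 3 = 1 ∨ k % 3 = 2 := by omega
      have hmod : ∀ j, t ^ j = t ^ (j % 3) := fun j => by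
        conv_lhs => rw [← Nat.mod_add_div j 3, pow_add, pow_mul, ht3, one_pow, mul_one]
      rcases this with r | r | r
      · exact Or.inr (by rw [hmod, r, pow_zero])
      · exact Or.inl (by rw [hmod k, r, pow_one, hmod k, r, pow_one])
      · refine Or.inl ?_
        rw [← pow_mul, hmod (k * k), Nat.mul_mod, r]
        norm_num
    have htk : t ^ k ∈ H' := by
      rcases hk with e | e
      · exact e ▸ ha0'
      · have := H'.mul_mem ha0' (H'.inv_mem hG'.sigma_mem)
        rwa [e, mul_inv_cancel_right] at this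
    rcases ht4 with e | e
    · exact e.symm ▸ H'.pow_mem htk k
    · exfalso
      rcases hk with e' | e' <;> rw [e] at e'
      · exact ha1.2 e'
      · exact ha1.1 (e'.trans (one_mul _))
  · have hVF : Active F (Vsub h 0) := active_Vsub h ⟨α, hα, hodd, hne⟩
    obtain ⟨α', hα', hodd', hne'⟩ := active_Vsub h (t' := t)
      ((activeV_iff h hS hF').2 fun hs => (activeV_iff h hS hF).1 hVF (hV hs))
    obtain ⟨C, u, w, f, hQ, -, -⟩ := h.exists_quartet t
    let e := eV h t
    have hinn : Cfsg.Inn _ ≤ (F'.autGroup (Vsub h t)).comap (MulAut.congr e).toMonoidHom := by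
      rintro _ ⟨g, rfl⟩
      rw [mem_pull, congr_conj]
      exact inn_le_autGroup F' hR ⟨e g, rfl⟩
    have := hQ.mem_of_odd hinn (α := (MulAut.congr e).symm α')
      (by rw [mem_pull, MulEquiv.apply_symm_apply]; assumption)
      (by rwa [MulEquiv.orderOf_eq]) (fun he => hne' ((MulAut.congr e).symm.map_eq_one_iff.1 he))
      (β := (MulAut.congr e).symm α) (by rwa [MulEquiv.orderOf_eq])
    have h2 : MulAut.congr e ((MulAut.congr e).symm α) ∈ F'.autGroup (Vsub h t) := this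
    rwa [MulEquiv.apply_symm_apply] at h2

theorem eq_of_stable (hS : IsPGroup 2 S) (hF : F.IsSaturated 2) (hF' : F'.IsSaturated 2)
    (hc : Canon h F) (hc' : Canon h F') (hA : Stable F (thetaA h) ↔ Stable F' (thetaA h))
    (hV : Stable F (thetaV h) ↔ Stable F' (thetaV h)) : F = F' :=
  eq_of_le_le (le_of_stable h hS hF hF' hc hc' hA.2 hV.2)
    (le_of_stable h hS hF' hF hc' hc hA.1 hV.1)

/-- Suitable generators exist. -/
theorem exists_canon (hS : IsPGroup 2 S) (hF : F.IsSaturated 2) :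
    ∃ (x' y' : S) (h' : WRGen x' y' z n), Canon h' F := by
  by_cases hA : Active F (Asub h)
  swap
  · exact ⟨x, y, h, fun ha => absurd ha hA⟩
  obtain ⟨α, hα, hodd, hne⟩ := hA
  obtain ⟨X', Y', h', hX, hY⟩ := exists_adapted h (good_pullback h hS hF)
    (t := (MulAut.congr (eA h)).symm α)
    (by rw [mem_pull, MulEquiv.apply_symm_apply]; assumption)
    (by rwa [MulEquiv.orderOf_eq]) (fun he => hne ((MulAut.congr (eA h)).symm.map_eq_one_iff.1 he))
  have hb : h'.base 1 = h.base 1 := by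
    refine Subgroup.eq_of_le_of_card_ge (fun g hg => ?_) ?_
    · obtain ⟨i, j, rfl⟩ := h'.mem_base_one hg
      exact Subgroup.mul_mem _ (Subgroup.zpow_mem _ X'.2 i) (Subgroup.zpow_mem _ Y'.2 j)
    · have e1 := h.card_base (one_dvd _)
      have e2 := h'.card_base (one_dvd _)
      rw [mul_one] at e1 e2
      omega
  refine ⟨X', Y', h', fun _ => ?_⟩
  have hAeq : Asub h' = Asub h := by rw [Asub, Asub, hb]
  rw [hAeq]
  refine ⟨α, hα, fun v => ⟨fun hv => ?_, fun hv => ?_⟩⟩
  · obtain rfl : v = eA h X' := Subtype.ext hv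
    have e := congrArg (fun b : h.base 1 => ((b : S) : Ω)) hX
    refine Eq.trans ?_ e
    show _ = ((eA h ((eA h).symm (α (eA h X'))) : Asub h) : Ω)
    rw [MulEquiv.apply_symm_apply]
  · obtain rfl : v = eA h Y' := Subtype.ext hv
    have e := congrArg (fun b : h.base 1 => ((b : S) : Ω)) hY
    refine Eq.trans ?_ e
    show _ = ((eA h ((eA h).symm (α (eA h Y'))) : Asub h) : Ω)
    rw [MulEquiv.apply_symm_apply]

/-- Among three essential subgroups two are conjugate. -/
theorem two_classes (hS : IsPGroup 2 S) (hF : F.IsSaturated 2) {E₁ E₂ E₃ : Subgroup Ω}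
    (h₁ : F.IsEssential 2 E₁) (h₂ : F.IsEssential 2 E₂) (h₃ : F.IsEssential 2 E₃) :
    (∃ φ ∈ F.Hom E₁, φ.range = E₂) ∨ (∃ φ ∈ F.Hom E₁, φ.range = E₃) ∨
      (∃ φ ∈ F.Hom E₂, φ.range = E₃) := by
  have key : ∀ t t', ∃ φ ∈ F.Hom (Vsub h t), φ.range = Vsub h t' := fun t t' => by
    refine ⟨_, F.conj_mem (Vsub_le h t) (SetLike.coe_mem (pr x y (t' - t) 0)), ?_⟩
    rw [← map_Vsub h t t']
    ext a
    exact ⟨fun ⟨b, hb⟩ => ⟨b, b.2, hb⟩, fun ⟨b, hb, he⟩ => ⟨⟨b, hb⟩, he⟩⟩
  have refl : ∀ P, P ≤ S → ∃ φ ∈ F.Hom P, φ.range = P := fun P hP => isConj_refl F hP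
  rcases active_cases h hS h₁.2.1.1 h₁.1 (active_of_essential hS hF h₁) with rfl | ⟨t₁, rfl⟩ <;>
    rcases active_cases h hS h₂.2.1.1 h₂.1 (active_of_essential hS hF h₂) with rfl | ⟨t₂, rfl⟩ <;>
    rcases active_cases h hS h₃.2.1.1 h₃.1 (active_of_essential hS hF h₃) with rfl | ⟨t₃, rfl⟩ <;>
    first
    | exact Or.inl (refl _ (Asub_le h))
    | exact Or.inl (key _ _)
    | exact Or.inr (Or.inl (refl _ (Asub_le h)))
    | exact Or.inr (Or.inl (key _ _))
    | exact Or.inr (Or.inr (refl _ (Asub_le h)))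
    | exact Or.inr (Or.inr (key _ _))

end Cfsg.Agent.Fusion.RankTwoRealize.WR
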