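import Cfsg.Agent.Lib.Fusion.RankTwoRealize.WRRealize
import Cfsg.Agent.Lib.Fusion.RankThreeTwo
import Cfsg.Agent.Lib.Fusion.TwoShapes.Models
import Cfsg.Agent.Lib.GL.Basic

/-!
Saturated fusion systems over wreathed 2-groups are realized by `S`, `GL₂(q)`, `(C × C) : S₃` or
`SL₃(q)`, and have at most two classes of essential subgroups.
-/

set_option autoImplicit false

open scoped Matrix MatrixGroups
open Matrix (GeneralLinearGroup SpecialLinearGroup mul_apply det_fin_two det_fin_two_of det_fin_three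
  one_fin_two)

namespace Cfsg.Agent.Fusion.RankTwoRealize.WR

open Cfsg Cfsg.FusionSystem Cfsg.Agent.Fusion
open Cfsg.Agent.TwoGroups Cfsg.Agent.TwoGroups.WRGen

/-- A prime with given 2-part of `q - 1` and a root of unity of that order. -/
theorem exists_prime_one (n : ℕ) (hn : 2 ≤ n) :
    ∃ (q : ℕ) (_ : Fact q.Prime) (ζ : (ZMod q)ˣ), orderOf ζ = 2 ^ n ∧ Odd q ∧
      (q - 1).factorization 2 = n ∧ (q + 1).factorization 2 = 1 := by
  obtain ⟨w, rfl⟩ : ∃ w, n = w + 2 := ⟨n - 2, by omega⟩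
  have hw : 0 < 2 ^ w := Nat.two_pow_pos w
  have hco : (2 ^ (w + 2) + 1).Coprime (2 ^ (w + 2 + 1)) := by
    refine Nat.Coprime.pow_right _ (Nat.coprime_two_right.2 (Nat.odd_iff.2 ?_))
    rw [pow_add]; omega
  obtain ⟨q, hq2, hq, hmod⟩ := Nat.forall_exists_prime_gt_and_modEq 2 (by positivity) hco
  obtain ⟨c, hc⟩ : ∃ c, q - 1 = 2 ^ (w + 2) * (2 * c + 1) := by
    have h1 := Nat.div_add_mod q (2 ^ (w + 2 + 1))
    rw [hmod, Nat.mod_eq_of_lt (by rw [pow_succ _ (w + 2), pow_add]; omega)] at h1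
    refine ⟨q / 2 ^ (w + 2 + 1), ?_⟩
    rw [mul_add, mul_one, ← mul_assoc, ← pow_succ]
    rw [pow_add 2 w 2] at h1 ⊢
    omega
  have h4 : q % 4 = 1 := by
    rw [pow_add, mul_comm (2 ^ w), mul_assoc] at hc
    omega
  have : Fact q.Prime := ⟨hq⟩
  obtain ⟨g, hg⟩ := IsCyclic.exists_ofOrder_eq_natCard (α := (ZMod q)ˣ)
  rw [Nat.card_units, Nat.card_zmod] at hg
  refine ⟨q, ⟨hq⟩, g ^ (2 * c + 1), ?_, Nat.odd_iff.2 (by omega), ?_,
    Forms.factorization_two_of_mod_four (by omega)⟩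
  · rw [orderOf_pow_of_dvd (by omega) (by rw [hg, hc]; exact dvd_mul_left _ _), hg, hc,
      Nat.mul_div_cancel _ (by omega)]
  · rw [hc, Nat.factorization_mul (by positivity) (by omega), Finsupp.add_apply,
      Nat.prime_two.factorization_pow, Finsupp.single_eq_same,
      Forms.factorization_two_of_odd (odd_two_mul_add_one c), add_zero]

/-! ### The two-dimensional linear group -/

section Linear

variable {K : Type*} [Field K]

/-- `diag (a, b)` -/
def dg (a b : Kˣ) : GL (Fin 2) K := GL.diagHom ![a, b]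

/-- The permutation matrix swapping the two coordinates. -/
def sw : GL (Fin 2) K := RankThreeTwo.swapMat

theorem dg_val (a b : Kˣ) : (dg a b : GL (Fin 2) K).val = !![(a : K), 0; 0, (b : K)] := by
  rw [dg, GL.coe_diagHom]
  ext i j
  fin_cases i <;> fin_cases j <;> simp

theorem dg_mul (a b c d : Kˣ) : dg a b * dg c d = dg (a * c) (b * d) := by
  rw [dg, dg, dg, ← map_mul]
  congr 1
  ext i : 1
  fin_cases i <;> simp

theorem dg_zpow (a b : Kˣ) (i : ℤ) : dg a b ^ i = dg (a ^ i) (b ^ i) := by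
  rw [dg, dg, ← map_zpow]
  congr 1
  ext j : 1
  fin_cases j <;> simp

theorem dg_one : dg (1 : Kˣ) 1 = 1 := Units.ext (by rw [dg_val]; simp [one_fin_two])

theorem dg_eq_one {a b : Kˣ} (h : dg a b = 1) : a = 1 ∧ b = 1 := by
  have e : (![a, b] : Fin 2 → Kˣ) = 1 := GL.diagHom_injective (by rw [map_one]; exact h)
  exact ⟨congrFun e 0, congrFun e 1⟩

theorem dg_inv (a b : Kˣ) : (dg a b)⁻¹ = dg a⁻¹ b⁻¹ :=
  inv_eq_of_mul_eq_one_right (by rw [dg_mul, mul_inv_cancel, mul_inv_cancel, dg_one])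

theorem sw_sq : (sw : GL (Fin 2) K) * sw = 1 := Units.ext (by
  rw [Units.val_mul, sw, RankThreeTwo.swapMat_val]; simp [one_fin_two])

theorem sw_conj (a b : Kˣ) : sw * dg a b * (sw : GL (Fin 2) K)⁻¹ = dg b a := by
  rw [mul_inv_eq_iff_eq_mul]
  refine Units.ext ?_
  rw [Units.val_mul, Units.val_mul, sw, RankThreeTwo.swapMat_val, dg_val, dg_val]
  simp

theorem dg_mul_sw_ne (a b : Kˣ) : dg a b * sw ≠ 1 := fun h => by
  have e := congrArg (fun g : GL (Fin 2) K => g.val 0 0) h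
  rw [Units.val_mul, sw, RankThreeTwo.swapMat_val, dg_val] at e
  simp at e

theorem det_dg (a b : Kˣ) : GeneralLinearGroup.det (dg a b) = a * b := by
  rw [dg, GL.det_diagHom, Fin.prod_univ_two]
  rfl

theorem det_sw : GeneralLinearGroup.det (sw : GL (Fin 2) K) = -1 := Units.ext (by
  rw [GeneralLinearGroup.val_det_apply, sw, RankThreeTwo.swapMat_val]; simp [det_fin_two])

theorem exists_conj_sw (h2 : (2 : K) ≠ 0) : ∃ g : GL (Fin 2) K, g * sw * g⁻¹ = dg (-1) 1 := by
  refine ⟨GeneralLinearGroup.mkOfDetNeZero !![1, -1; 1, 1]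
    (by rw [det_fin_two_of]; norm_num; exact h2), ?_⟩
  rw [mul_inv_eq_iff_eq_mul]
  refine Units.ext ?_
  show (!![1, -1; 1, 1] : Matrix (Fin 2) (Fin 2) K) * (sw : GL (Fin 2) K).val =
    (dg (-1) 1 : GL (Fin 2) K).val * !![1, -1; 1, 1]
  rw [sw, RankThreeTwo.swapMat_val, dg_val]
  simp

/-- The permutation matrix of a cycle of length 3. -/
def cyc3 : SpecialLinearGroup (Fin 3) K := ⟨!![0, 0, 1; 1, 0, 0; 0, 1, 0], by simp [det_fin_three]⟩

theorem cyc3_conj {a b a' b' : Kˣ} (h1 : a' = (a * b)⁻¹) (h2 : b' = a) :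
    (cyc3 : SpecialLinearGroup (Fin 3) K) * RankThreeTwo.emb (dg a b) * cyc3⁻¹ =
      RankThreeTwo.emb (dg a' b') := by
  rw [h1, h2]
  have ha := a.ne_zero
  have hb := b.ne_zero
  rw [mul_inv_eq_iff_eq_mul]
  refine Subtype.ext ?_
  show (!![0, 0, 1; 1, 0, 0; 0, 1, 0] : Matrix (Fin 3) (Fin 3) K) *
      RankThreeTwo.blockMat (dg a b).val =
    RankThreeTwo.blockMat (dg (a * b)⁻¹ a).val * !![0, 0, 1; 1, 0, 0; 0, 1, 0]
  rw [dg_val, dg_val]
  ext i j
  fin_cases i <;> fin_cases j <;>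
    simp [RankThreeTwo.blockMat, mul_apply, Fin.sum_univ_three, det_fin_two] <;> field_simp

end Linear

variable {Ω : Type*} [Group Ω] {S : Subgroup Ω} [Finite S] {x y z : S} {n : ℕ}
variable (h : WRGen x y z n) {F : FusionSystem S}

theorem fac_GL2 {q : ℕ} [Fact q.Prime] {n : ℕ} (hq : Odd q) (hm : (q - 1).factorization 2 = n)
    (hp : (q + 1).factorization 2 = 1) :
    (Nat.card (GL (Fin 2) (ZMod q))).factorization 2 = 2 * n + 1 := by
  have h2 := (Fact.out : q.Prime).two_le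
  rw [GL.card_GL2, ZMod.card, show q ^ 2 - 1 = (q + 1) * (q - 1) by rw [← Nat.sq_sub_sq, one_pow],
    Nat.factorization_mul (Nat.mul_ne_zero (by omega) (by omega))
      (Nat.mul_ne_zero (by omega) (by omega)),
    Nat.factorization_mul (by omega) (by omega), Nat.factorization_mul (by omega) (by omega),
    Finsupp.add_apply, Finsupp.add_apply, Finsupp.add_apply, hp, hm,
    Forms.factorization_two_of_odd hq]
  omega

include h

theorem dvd_of_zpow {G : Type*} [Group G] {ζ : G} (hζ : orderOf ζ = 2 ^ n) {i : ℤ} (hi : ζ ^ i = 1) :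
    (2 : ℤ) ^ n ∣ i := by
  have := orderOf_dvd_iff_zpow_eq_one.2 hi
  rw [hζ] at this
  exact_mod_cast this

/-- The linear model. -/
theorem realizable_GL (hS : IsPGroup 2 S) (hF : F.IsSaturated 2) (hc : Canon h F)
    (hA : Stable F (thetaA h)) (hV : ¬ Stable F (thetaV h)) : F.IsRealizable 2 := by
  obtain ⟨q, hq, ζ, hζ, hodd, hm, hp⟩ := exists_prime_one n h.two_le
  have h2 : (2 : ZMod q) ≠ 0 := TwoShapes.Models.two_ne hodd
  have hn1 : ζ ^ ((2 : ℤ) ^ n) = 1 := by
    rw [← orderOf_dvd_iff_zpow_eq_one, hζ]; push_cast; exact dvd_rfl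
  obtain ⟨m, hnm⟩ : ∃ m, n = m + 1 := ⟨n - 1, by have := h.two_le; omega⟩
  have hneg : ζ ^ ((2 : ℤ) ^ m) = -1 := by
    have e1 : ζ ^ (2 ^ m : ℕ) * ζ ^ (2 ^ m : ℕ) = 1 := by
      rw [← pow_add, ← two_mul, ← pow_succ', ← hnm, ← hζ, pow_orderOf_eq_one]
    have e2 : ζ ^ (2 ^ m : ℕ) ≠ 1 :=
      pow_ne_one_of_lt_orderOf (by positivity) (by
        rw [hζ, hnm]; exact Nat.pow_lt_pow_right one_lt_two (Nat.lt_succ_self m))
    rcases mul_self_eq_one_iff.1 (show ((ζ ^ (2 ^ m : ℕ) : (ZMod q)ˣ) : ZMod q) *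
        ((ζ ^ (2 ^ m : ℕ) : (ZMod q)ˣ) : ZMod q) = 1 by rw [← Units.val_mul, e1, Units.val_one])
      with e | e
    · exact absurd (Units.ext e) e2
    · rw [show (2 : ℤ) ^ m = ((2 ^ m : ℕ) : ℤ) by push_cast; rfl, zpow_natCast]
      exact Units.ext e
  refine realizable_of_model h hS hF hc (GL (Fin 2) (ZMod q)) (dg ζ 1) (dg 1 ζ) sw ?_ ?_ sw_sq
    (sw_conj ζ 1) (fun i j => ⟨fun e => ?_, ?_⟩) (fac_GL2 hodd hm hp).le ?_
  · rw [dg_zpow, hn1, one_zpow, dg_one]
  · rw [dg_mul, dg_mul, one_mul, mul_one]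
  · rw [dg_zpow, dg_zpow, dg_mul, one_zpow, one_zpow, mul_one, one_mul] at e
    exact ⟨dvd_of_zpow h hζ (dg_eq_one e).1, dvd_of_zpow h hζ (dg_eq_one e).2⟩
  · rw [dg_zpow, dg_zpow, dg_mul]
    exact dg_mul_sw_ne _ _
  intro ι hι hx hy hz hsat
  have hpr : ∀ i j : ℤ, ι (pr x y i j) = dg (ζ ^ i) (ζ ^ j) := fun i j => by
    rw [pr, map_mul, map_zpow, map_zpow, hx, hy, dg_zpow, dg_zpow, dg_mul, one_zpow, one_zpow,
      mul_one, one_mul]
  have hval : ∀ w : S, ∃ k : ℤ, GeneralLinearGroup.det (ι w) = ζ ^ k ∧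
      thetaA h w = .ofAdd (k : ZMod (2 ^ (n - 1))) := fun w => by
    obtain ⟨i, j, rfl | rfl⟩ := h.exists_form w
    · exact ⟨i + j, by rw [hpr, det_dg, ← zpow_add], thetaA_pr h i j⟩
    · refine ⟨i + j + 2 ^ m, ?_, ?_⟩
      · rw [map_mul ι, hpr, hz, map_mul, det_dg, det_sw, zpow_add, zpow_add, hneg]
      · rw [thetaA_prz]
        congr 1
        rw [eq_comm, ← sub_eq_zero, ← Int.cast_sub, ZMod.intCast_zmod_eq_zero_iff_dvd,
          show n - 1 = m by omega]
        push_cast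
        exact ⟨1, by ring⟩
  have hAst : Stable (inducedSystem ι hι) (thetaA h) := stable_induced hι fun g s t hg => by
    obtain ⟨a, ha, ha'⟩ := hval s
    obtain ⟨b, hb, hb'⟩ := hval t
    have e : ζ ^ (b - a) = 1 := by
      rw [zpow_sub, mul_inv_eq_one, ← hb, ← ha, ← hg, map_mul, map_mul, map_inv,
        mul_comm (GeneralLinearGroup.det g), mul_inv_cancel_right]
    rw [ha', hb']
    congr 1
    rw [← sub_eq_zero, ← Int.cast_sub, ZMod.intCast_zmod_eq_zero_iff_dvd]
    push_cast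
    exact (pow_dvd_pow 2 (Nat.sub_le n 1)).trans (dvd_of_zpow h hζ e)
  have hw : ∃ g, g * ι z * g⁻¹ = ι (pr x y ((2 : ℤ) ^ m) 0) := by
    obtain ⟨g, hg⟩ := exists_conj_sw h2
    exact ⟨g, by rw [hz, hg, hpr, hneg, zpow_zero]⟩
  exact ⟨iff_of_true hA hAst, iff_of_false hV (not_stableV h hι _ _ hw),
    canon_of_stable h hS hsat hAst⟩

/-- The model with both homomorphisms unstable. -/
theorem realizable_SL3 (hS : IsPGroup 2 S) (hF : F.IsSaturated 2) (hc : Canon h F)
    (hA : ¬ Stable F (thetaA h)) (hV : ¬ Stable F (thetaV h)) : F.IsRealizable 2 := by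
  obtain ⟨q, hq, ζ, hζ, hodd, hm, hp⟩ := exists_prime_one n h.two_le
  have h2 : (2 : ZMod q) ≠ 0 := TwoShapes.Models.two_ne hodd
  have hn1 : ζ ^ ((2 : ℤ) ^ n) = 1 := by
    rw [← orderOf_dvd_iff_zpow_eq_one, hζ]; push_cast; exact dvd_rfl
  obtain ⟨m, hnm⟩ : ∃ m, n = m + 1 := ⟨n - 1, by have := h.two_le; omega⟩
  have hneg : ζ ^ ((2 : ℤ) ^ m) = -1 := by
    have e1 : ζ ^ (2 ^ m : ℕ) * ζ ^ (2 ^ m : ℕ) = 1 := by
      rw [← pow_add, ← two_mul, ← pow_succ', ← hnm, ← hζ, pow_orderOf_eq_one]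
    have e2 : ζ ^ (2 ^ m : ℕ) ≠ 1 :=
      pow_ne_one_of_lt_orderOf (by positivity) (by
        rw [hζ, hnm]; exact Nat.pow_lt_pow_right one_lt_two (Nat.lt_succ_self m))
    rcases mul_self_eq_one_iff.1 (show ((ζ ^ (2 ^ m : ℕ) : (ZMod q)ˣ) : ZMod q) *
        ((ζ ^ (2 ^ m : ℕ) : (ZMod q)ˣ) : ZMod q) = 1 by rw [← Units.val_mul, e1, Units.val_one])
      with e | e
    · exact absurd (Units.ext e) e2
    · rw [show (2 : ℤ) ^ m = ((2 ^ m : ℕ) : ℤ) by push_cast; rfl, zpow_natCast]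
      exact Units.ext e
  let e : GL (Fin 2) (ZMod q) →* SpecialLinearGroup (Fin 3) (ZMod q) := RankThreeTwo.emb
  have hei : Function.Injective e := RankThreeTwo.emb_injective
  refine realizable_of_model h hS hF hc (SpecialLinearGroup (Fin 3) (ZMod q)) (e (dg ζ 1))
    (e (dg 1 ζ)) (e sw) ?_ ?_ ?_ ?_ (fun i j => ⟨fun he => ?_, fun he => ?_⟩)
    ((TwoShapes.Models.factorization_sl_three hodd).trans (fac_GL2 hodd hm hp)).le ?_
  · rw [← map_zpow, dg_zpow, hn1, one_zpow, dg_one, map_one]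
  · rw [← map_mul, ← map_mul, dg_mul, dg_mul, one_mul, mul_one]
  · rw [← map_mul, sw_sq, map_one]
  · rw [← map_mul, ← map_inv, ← map_mul, sw_conj]
  · rw [← map_zpow, ← map_zpow, ← map_mul, dg_zpow, dg_zpow, dg_mul, one_zpow, one_zpow, mul_one,
      one_mul] at he
    have he' := hei (he.trans (map_one e).symm)
    exact ⟨dvd_of_zpow h hζ (dg_eq_one he').1, dvd_of_zpow h hζ (dg_eq_one he').2⟩
  · rw [← map_zpow, ← map_zpow, ← map_mul, ← map_mul, dg_zpow, dg_zpow, dg_mul] at he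
    exact dg_mul_sw_ne _ _ (hei (he.trans (map_one e).symm))
  intro ι hι hx hy hz hsat
  have hgx : cyc3 * ι x * cyc3⁻¹ = ι (y * x⁻¹) := by
    rw [hx, map_mul, map_inv, hx, hy, ← map_inv, ← map_mul, dg_inv, dg_mul]
    exact cyc3_conj (by simp) (by simp)
  have hgy : cyc3 * ι y * cyc3⁻¹ = ι x⁻¹ := by
    rw [hy, map_inv, hx, ← map_inv, dg_inv]
    exact cyc3_conj (by simp) (by simp)
  have hw : ∃ g, g * ι z * g⁻¹ = ι (pr x y ((2 : ℤ) ^ m) 0) := by
    obtain ⟨g, hg⟩ := exists_conj_sw h2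
    refine ⟨e g, ?_⟩
    rw [hz, ← map_mul, ← map_inv, ← map_mul, hg, pr, zpow_zero, mul_one, map_zpow, hx, ← map_zpow,
      dg_zpow, hneg, one_zpow]
  exact ⟨iff_of_false hA (not_stableA h hι ⟨_, hgx⟩), iff_of_false hV (not_stableV h hι _ _ hw),
    canon_of_elem h hS hF hc hA hι _ hgx hgy⟩

/-! ### The monomial model -/

omit h in
/-- The kernel of the product map. -/
def prodOne (M : Type*) [CommGroup M] : Subgroup (Fin 3 → M) :=
  ({ toFun := fun f => ∏ i, f i
     map_one' := by simp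
     map_mul' := fun f g => Finset.prod_mul_distrib } : (Fin 3 → M) →* M).ker

omit h in
theorem mem_prodOne {M : Type*} [CommGroup M] {f : Fin 3 → M} :
    f ∈ prodOne M ↔ f 0 * f 1 * f 2 = 1 := by
  show (∏ i, f i) = 1 ↔ _
  rw [Fin.prod_univ_three]

omit h in
/-- Permutation of the coordinates. -/
def permAct (M : Type*) [CommGroup M] : Equiv.Perm (Fin 3) →* MulAut (prodOne M) where
  toFun σ :=
    { toFun := fun a => ⟨fun i => a.1 (σ.symm i), (Equiv.prod_comp σ.symm a.1).trans a.2⟩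
      invFun := fun a => ⟨fun i => a.1 (σ i), (Equiv.prod_comp σ a.1).trans a.2⟩
      left_inv := fun a => Subtype.ext (funext fun i => by simp)
      right_inv := fun a => Subtype.ext (funext fun i => by simp)
      map_mul' := fun a b => rfl }
  map_one' := rfl
  map_mul' σ τ := rfl

omit h in
theorem card_prodOne (M : Type*) [CommGroup M] : Nat.card (prodOne M) = Nat.card M * Nat.card M := by
  rw [← Nat.card_prod]
  refine Nat.card_congr
    { toFun := fun a => (a.1 0, a.1 1)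
      invFun := fun p => ⟨![p.1, p.2, (p.1 * p.2)⁻¹], mem_prodOne.2 (by simp)⟩
      left_inv := fun a => Subtype.ext (funext fun i => ?_)
      right_inv := fun p => rfl }
  have e := mem_prodOne.1 a.2
  fin_cases i
  · rfl
  · rfl
  · exact (eq_inv_of_mul_eq_one_right e).symm

/-- The model with `θV` stable. -/
theorem realizable_monomial (hS : IsPGroup 2 S) (hF : F.IsSaturated 2) (hc : Canon h F)
    (hA : ¬ Stable F (thetaA h)) (hV : Stable F (thetaV h)) : F.IsRealizable 2 := by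
  let M := Multiplicative (ZMod (2 ^ n))
  have : NeZero (2 ^ n : ℕ) := ⟨by positivity⟩
  let g : M := .ofAdd 1
  let G := prodOne M ⋊[permAct M] Equiv.Perm (Fin 3)
  have : Finite G := Finite.of_equiv _ SemidirectProduct.equivProd.symm
  let a : prodOne M := ⟨![g, 1, g⁻¹], mem_prodOne.2 (by simp; exact mul_inv_cancel g)⟩
  let b : prodOne M := ⟨![1, g, g⁻¹], mem_prodOne.2 (by simp; exact mul_inv_cancel g)⟩
  let x' : G := SemidirectProduct.inl a
  let y' : G := SemidirectProduct.inl b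
  let z' : G := SemidirectProduct.inr (Equiv.swap 0 1)
  have hconj : ∀ (σ : Equiv.Perm (Fin 3)) (u v : prodOne M), (∀ i, u.1 i = v.1 (σ i)) →
      (SemidirectProduct.inr σ : G) * SemidirectProduct.inl u * (SemidirectProduct.inr σ)⁻¹ =
        SemidirectProduct.inl v := fun σ u v huv => by
    rw [← map_inv SemidirectProduct.inr, ← SemidirectProduct.inl_aut]
    refine congrArg SemidirectProduct.inl (Subtype.ext (funext fun i => ?_))
    show u.1 (σ.symm i) = v.1 i
    rw [huv, Equiv.apply_symm_apply]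
  have hg : ∀ i : ℤ, g ^ i = 1 ↔ (2 : ℤ) ^ n ∣ i := fun i => by
    rw [← ofAdd_zsmul, ofAdd_eq_one, zsmul_one, ZMod.intCast_zmod_eq_zero_iff_dvd]
    push_cast
    rfl
  refine realizable_of_model h hS hF hc G x' y' z' ?_ ?_ ?_ ?_ (fun i j => ⟨fun e => ?_, fun e => ?_⟩)
    ?_ ?_
  · rw [← map_zpow, ← map_one (SemidirectProduct.inl : prodOne M →* G)]
    refine congrArg SemidirectProduct.inl (Subtype.ext (funext fun i => ?_))
    fin_cases i <;> simp [a, (hg _).2 dvd_rfl]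
  · rw [← map_mul, ← map_mul, mul_comm]
  · rw [← map_mul, Equiv.swap_mul_self, map_one]
  · exact hconj _ a b fun i => by fin_cases i <;> simp [a, b, Equiv.swap_apply_def]
  · rw [← map_zpow, ← map_zpow, ← map_mul] at e
    have e' := congrArg Subtype.val
      (SemidirectProduct.inl_injective (e.trans (map_one SemidirectProduct.inl).symm))
    have e0 := congrFun e' 0
    have e1 := congrFun e' 1
    simp [a, b, hg] at e0 e1
    exact ⟨e0, e1⟩
  · have e' := congrArg SemidirectProduct.rightHom e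
    rw [map_mul, map_mul, map_zpow, map_zpow, map_one, SemidirectProduct.rightHom_inl,
      SemidirectProduct.rightHom_inl, SemidirectProduct.rightHom_inr, one_zpow, one_zpow, one_mul,
      one_mul] at e'
    exact absurd e' (by decide)
  · rw [SemidirectProduct.card, card_prodOne, Nat.card_eq_fintype_card (α := Equiv.Perm (Fin 3)),
      Fintype.card_perm, Fintype.card_fin, show Nat.card M = 2 ^ n by
        rw [Nat.card_congr Multiplicative.toAdd, Nat.card_zmod],
      Nat.factorization_mul (by positivity) (by decide), Nat.factorization_mul (by positivity)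
        (by positivity), Finsupp.add_apply, Finsupp.add_apply, Nat.prime_two.factorization_pow,
      Finsupp.single_eq_same, Forms.factorization_two_of_mod_four (a := Nat.factorial 3) (by decide)]
    omega
  intro ι hι hx hy hz hsat
  have hgx : (SemidirectProduct.inr (finRotate 3) : G) * ι x * (SemidirectProduct.inr (finRotate 3))⁻¹
      = ι (y * x⁻¹) := by
    rw [hx, map_mul ι, map_inv ι, hx, hy]
    simp only [x', y']
    rw [← map_inv (SemidirectProduct.inl : prodOne M →* G) a, ← map_mul]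
    exact hconj _ a _ fun i => by fin_cases i <;> simp [a, b]
  have hgy : (SemidirectProduct.inr (finRotate 3) : G) * ι y * (SemidirectProduct.inr (finRotate 3))⁻¹
      = ι x⁻¹ := by
    rw [hy, map_inv ι, hx]
    simp only [x', y']
    rw [← map_inv (SemidirectProduct.inl : prodOne M →* G) a]
    exact hconj _ b _ fun i => by fin_cases i <;> simp [a, b] <;> exact (inv_inv g).symm
  refine ⟨iff_of_false hA (not_stableA h hι ⟨_, hgx⟩),
    iff_of_true hV (stableV_of_char h hι (Equiv.Perm.sign.comp SemidirectProduct.rightHom) ?_ ?_ ?_),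
    canon_of_elem h hS hF hc hA hι _ hgx hgy⟩
  · rw [hx]
    show Equiv.Perm.sign (1 : Equiv.Perm (Fin 3)) = 1
    exact map_one _
  · rw [hy]
    show Equiv.Perm.sign (1 : Equiv.Perm (Fin 3)) = 1
    exact map_one _
  · rw [hz]
    show Equiv.Perm.sign (Equiv.swap (0 : Fin 3) 1) = -1
    exact Equiv.Perm.sign_swap (by decide)

omit h in
/-- The wreathed case: at most two classes of essential subgroups, and realizability. -/
theorem wreathed_case {Ω : Type*} [Group Ω] {S : Subgroup Ω} [Finite S] (hS : IsPGroup 2 S)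
    (F : FusionSystem S) (hF : F.IsSaturated 2) (hW : Cfsg.IsWreathed ↥S) :
    (∀ E₁ E₂ E₃ : Subgroup Ω, F.IsEssential 2 E₁ → F.IsEssential 2 E₂ → F.IsEssential 2 E₃ →
      (∃ φ ∈ F.Hom E₁, φ.range = E₂) ∨ (∃ φ ∈ F.Hom E₁, φ.range = E₃) ∨
        (∃ φ ∈ F.Hom E₂, φ.range = E₃)) ∧ F.IsRealizable 2 := by
  obtain ⟨x₀, y₀, z, n, h₀⟩ := exists_wrGen hW
  refine ⟨fun E₁ E₂ E₃ h₁ h₂ h₃ => two_classes h₀ hS hF h₁ h₂ h₃, ?_⟩
  obtain ⟨x, y, h, hc⟩ := exists_canon h₀ hS hF
  by_cases hA : Stable F (thetaA h) <;> by_cases hV : Stable F (thetaV h)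
  · exact realizable_of_stable h hS hF hA hV
  · exact realizable_GL h hS hF hc hA hV
  · exact realizable_monomial h hS hF hc hA hV
  · exact realizable_SL3 h hS hF hc hA hV

end Cfsg.Agent.Fusion.RankTwoRealize.WR
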