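import Cfsg.Agent.Lib.Fusion.RankTwoRealize.WRFusion

/-!
Realizing saturated systems over wreathed 2-groups by groups containing three elements with the
defining relations.
-/

set_option autoImplicit false

namespace Cfsg.Agent.Fusion.RankTwoRealize.WR

open Cfsg Cfsg.FusionSystem Cfsg.Agent.Fusion
open Cfsg.Agent.TwoGroups Cfsg.Agent.TwoGroups.WRGen

variable {Ω : Type*} [Group Ω] {S : Subgroup Ω} [Finite S] {x y z : S} {n : ℕ}
variable (h : WRGen x y z n) {F : FusionSystem S}

omit [Finite S] in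
/-- The system of `S` itself. -/
theorem stable_id {B : Type*} [CommGroup B] (θ : S →* B) :
    Stable (inducedSystem (MonoidHom.id S) Function.injective_id) θ :=
  stable_induced _ fun g s t hg => by
    rw [← show g * s * g⁻¹ = t from hg, map_mul, map_mul, map_inv, mul_comm (θ g),
      mul_inv_cancel_right]

theorem saturated_id (hS : IsPGroup 2 S) :
    (inducedSystem (MonoidHom.id S) Function.injective_id).IsSaturated 2 := by
  have : Fact (Nat.Prime 2) := ⟨Nat.prime_two⟩
  exact isSaturated_of_realized (inducedSystem_realized _ _)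
    ⟨(hS.to_subgroup ⊤).toSylow (by rw [Subgroup.index_top]; norm_num),
      (MonoidHom.range_eq_top.2 Function.surjective_id).symm⟩

include h

theorem canon_of_stable (hS : IsPGroup 2 S) (hF : F.IsSaturated 2) (hA : Stable F (thetaA h)) :
    Canon h F := fun ha => absurd hA ((activeA_iff h hS hF).1 ha)

theorem realizable_of_stable (hS : IsPGroup 2 S) (hF : F.IsSaturated 2)
    (hA : Stable F (thetaA h)) (hV : Stable F (thetaV h)) : F.IsRealizable 2 := by
  have : Fact (Nat.Prime 2) := ⟨Nat.prime_two⟩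
  have e := eq_of_stable h hS hF (saturated_id hS) (canon_of_stable h hS hF hA)
    (canon_of_stable h hS (saturated_id hS) (stable_id _)) (iff_of_true hA (stable_id _))
    (iff_of_true hV (stable_id _))
  exact ⟨S, inferInstance, inferInstance, MonoidHom.id S, e ▸ inducedSystem_realized _ _,
    (hS.to_subgroup ⊤).toSylow (by rw [Subgroup.index_top]; norm_num),
    (MonoidHom.range_eq_top.2 Function.surjective_id).symm⟩

/-- An element inducing the canonical automorphism. -/
theorem canon_of_elem (hS : IsPGroup 2 S) (hF : F.IsSaturated 2) (hc : Canon h F)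
    (hA : ¬ Stable F (thetaA h)) {G : Type*} [Group G] {ι : S →* G} (hι : Function.Injective ι)
    (g : G) (hgx : g * ι x * g⁻¹ = ι (y * x⁻¹)) (hgy : g * ι y * g⁻¹ = ι x⁻¹) :
    Canon h (inducedSystem ι hι) := by
  intro _
  obtain ⟨α, -, hα⟩ := hc ((activeA_iff h hS hF).2 hA)
  refine ⟨α, aut_mem_induced hι (Asub_le h) α g fun v => ?_, hα⟩
  let L : Asub h →* G :=
    (MulAut.conj g).toMonoidHom.comp (ι.comp (Subgroup.inclusion (Asub_le h)))
  let R : Asub h →* G := ι.comp ((Subgroup.inclusion (Asub_le h)).comp α.toMonoidHom)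
  show L v = R v
  obtain ⟨b, rfl⟩ := (eA h).surjective v
  obtain ⟨i, j, rfl⟩ := exists_eq_P h b
  have hx : x ∈ h.base 1 := by simpa [pr] using h.pr_mem_base_one 1 0
  have hy : y ∈ h.base 1 := by simpa [pr] using h.pr_mem_base_one 0 1
  have e : P h i j = (⟨x, hx⟩ : h.base 1) ^ i * (⟨y, hy⟩ : h.base 1) ^ j :=
    Subtype.ext (by simp [P, pr])
  have ex : L (eA h ⟨x, hx⟩) = R (eA h ⟨x, hx⟩) := by
    show g * ι x * g⁻¹ = ι ⟨α (eA h ⟨x, hx⟩), _⟩
    rw [hgx]
    exact congrArg ι (Subtype.ext ((hα (eA h ⟨x, hx⟩)).1 rfl).symm)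
  have ey : L (eA h ⟨y, hy⟩) = R (eA h ⟨y, hy⟩) := by
    show g * ι y * g⁻¹ = ι ⟨α (eA h ⟨y, hy⟩), _⟩
    rw [hgy]
    exact congrArg ι (Subtype.ext ((hα (eA h ⟨y, hy⟩)).2 rfl).symm)
  rw [e, map_mul, map_zpow, map_zpow, map_mul, map_mul, map_zpow, map_zpow, map_zpow, map_zpow,
    ex, ey]

/-- Realizability from a group with suitable elements. -/
theorem realizable_of_model (hS : IsPGroup 2 S) (hF : F.IsSaturated 2) (hc : Canon h F) (G : Type)
    [Group G] [Finite G] (x' y' z' : G) (h1 : x' ^ ((2 : ℤ) ^ n) = 1) (hcm : x' * y' = y' * x')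
    (h2 : z' * z' = 1) (h3 : z' * x' * z'⁻¹ = y')
    (hinj : ∀ i j : ℤ, (x' ^ i * y' ^ j = 1 → (2 : ℤ) ^ n ∣ i ∧ (2 : ℤ) ^ n ∣ j) ∧
      x' ^ i * y' ^ j * z' ≠ 1)
    (hfac : (Nat.card G).factorization 2 ≤ 2 * n + 1)
    (hθ : ∀ (ι : S →* G) (hι : Function.Injective ι), ι x = x' → ι y = y' → ι z = z' →
      (inducedSystem ι hι).IsSaturated 2 →
      (Stable F (thetaA h) ↔ Stable (inducedSystem ι hι) (thetaA h)) ∧
      (Stable F (thetaV h) ↔ Stable (inducedSystem ι hι) (thetaV h)) ∧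
      Canon h (inducedSystem ι hι)) :
    F.IsRealizable 2 := by
  have : Fact (Nat.Prime 2) := ⟨Nat.prime_two⟩
  obtain ⟨ι, hx, hy, hz⟩ := h.exists_hom x' y' z' h1 hcm h2 h3
  have hι : Function.Injective ι := by
    refine (injective_iff_map_eq_one ι).2 fun w hw => ?_
    obtain ⟨i, j, rfl | rfl⟩ := h.exists_form w
    · rw [pr, map_mul, map_zpow, map_zpow, hx, hy] at hw
      exact (h.pr_eq_one_iff i j).2 ((hinj i j).1 hw)
    · rw [pr, map_mul, map_mul, map_zpow, map_zpow, hx, hy, hz] at hw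
      exact absurd hw (hinj i j).2
  have hc2 : Nat.card S = 2 ^ (2 * n + 1) := by rw [h.card]; ring
  have hcard : Nat.card S = 2 ^ (Nat.card G).factorization 2 := by
    rw [hc2]
    congr 1
    refine le_antisymm ?_ hfac
    refine (Nat.prime_two.pow_dvd_iff_le_factorization Nat.card_pos.ne').1 ?_
    rw [← hc2, Nat.card_congr (MonoidHom.ofInjective hι).toEquiv]
    exact Subgroup.card_subgroup_dvd_card _
  have hsat := isSaturated_of_realized (inducedSystem_realized ι hι) (exists_sylow_range hcard hι)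
  obtain ⟨hA, hV, hC⟩ := hθ ι hι hx hy hz hsat
  exact isRealizable_of_induced ι hι hcard (eq_of_stable h hS hF hsat hc hC hA hV)

variable {G : Type*} [Group G] {ι : S →* G} (hι : Function.Injective ι)

/-- A character that is `1` on `x`, `y` and `-1` on `z` makes `θV` stable. -/
theorem stableV_of_char (χ : G →* ℤˣ) (hx : χ (ι x) = 1) (hy : χ (ι y) = 1) (hz : χ (ι z) = -1) :
    Stable (inducedSystem ι hι) (thetaV h) := by
  refine stable_induced hι fun g s t hg => ?_
  have e : χ (ι t) = χ (ι s) := by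
    rw [← hg, map_mul, map_mul, map_inv, mul_comm (χ g), mul_inv_cancel_right]
  have hne : (1 : ℤˣ) ≠ -1 := by decide
  obtain ⟨i, j, rfl | rfl⟩ := h.exists_form s <;> obtain ⟨k, l, rfl | rfl⟩ := h.exists_form t <;>
    simp only [pr, map_mul, map_zpow, hx, hy, hz, one_zpow, one_mul] at e
  · rw [thetaV_pr, thetaV_pr]
  · exact absurd e.symm hne
  · exact absurd e hne
  · rw [thetaV_prz, thetaV_prz]

/-- Fusion of `z` with an element of the homocyclic subgroup. -/
theorem not_stableV (i j : ℤ) (hg : ∃ g : G, g * ι z * g⁻¹ = ι (pr x y i j)) :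
    ¬ Stable (inducedSystem ι hι) (thetaV h) := by
  refine not_stable_induced hι hg fun e => ?_
  have hz : thetaV h z = .ofAdd 1 := by
    have := thetaV_prz h 0 0
    rwa [show pr x y 0 0 * z = z by simp [pr]] at this
  rw [thetaV_pr, hz] at e
  exact absurd e (by decide)

/-- Fusion of `x` with `y x⁻¹`. -/
theorem not_stableA (hg : ∃ g : G, g * ι x * g⁻¹ = ι (y * x⁻¹)) :
    ¬ Stable (inducedSystem ι hι) (thetaA h) := by
  refine not_stable_induced hι hg fun e => ?_
  have hx : thetaA h x = .ofAdd ((1 + 0 : ℤ) : ZMod (2 ^ (n - 1))) := by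
    rw [← thetaA_pr h 1 0, show pr x y 1 0 = x by simp [pr]]
  have hyx : thetaA h (y * x⁻¹) = .ofAdd ((-1 + 1 : ℤ) : ZMod (2 ^ (n - 1))) := by
    rw [← thetaA_pr h (-1) 1, show pr x y (-1) 1 = y * x⁻¹ by
      simp [pr, h.comm.inv_left.eq]]
  rw [hx, hyx, Multiplicative.ofAdd.injective.eq_iff, ← sub_eq_zero, ← Int.cast_sub,
    ZMod.intCast_zmod_eq_zero_iff_dvd] at e
  have h2 : (2 : ℤ) ∣ -1 + 1 - (1 + 0) := by
    refine dvd_trans ?_ e
    push_cast
    exact dvd_pow_self 2 (by have := h.two_le; omega)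
  norm_num at h2

end Cfsg.Agent.Fusion.RankTwoRealize.WR
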